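import Mathlib
import Cfsg.Agent.Wz.EA

/-!
# The wreath configuration when the diagonal has a centre of odd order
-/

set_option autoImplicit false

namespace Cfsg.Agent.Wy

open Cfsg.Agent.Loc.Mss Cfsg.Agent.Gold Cfsg.Agent.Wr Cfsg.Agent.Wz Subgroup

universe u

/-- The configuration of the final fusion argument: `L` is the diagonal of `A × t A t`. -/
structure En (G : Type u) [Group G] where
  (X L A T P : Subgroup G)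
  (t z β : G)
  lw : Lw A T P z β
  nX : X.Normal
  sX : IsSimpleGroup X
  AX : A ≤ X
  tt : t * t = 1
  comm : ∀ a ∈ A, ∀ b ∈ A, a * (t * b * t) = t * b * t * a
  diag : ∀ g, g ∈ L ↔ ∃ a ∈ A, g = a * (t * a * t)
  zL : ∀ g ∈ L, g ∈ 𝐂[L] → Two g → g = 1
  nL : C1 t ≤ 𝐍[L]
  two : ∀ k ∈ 𝐂[L], k * t = t * k → Two k → k = 1 ∨ k = t
  odd : ∀ k ∈ 𝐂[L], k * t = t * k → Odd (orderOf k) → k ∈ 𝐂[A]
  idxL : ∀ g ∈ C1 t, ∀ g' ∈ C1 t, g ∈ L ⊔ 𝐂[L] ∨ g' ∈ L ⊔ 𝐂[L] ∨ g * g' ∈ L ⊔ 𝐂[L]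
  invL : ∀ g ∈ C1 t, g ∉ L ⊔ 𝐂[L] → ∃ l ∈ L, g * l * (g * l) ∈ 𝐂[L]
  cenL : ∀ g ∈ C1 t, (∀ a ∈ T, g * (a * (t * a * t)) = a * (t * a * t) * g) →
    g ∈ 𝐂[L] ∨ g * (z * (t * z * t)) ∈ 𝐂[L]

namespace En

variable {G : Type u} [Group G] (e : En G)

/-- The second factor. -/
def B : Subgroup G := cj(e.t, e.A)
/-- The Sylow 2-subgroup of the second factor. -/
def T2 : Subgroup G := cj(e.t, e.T)
/-- The subgroup `t P t`. -/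
def P2 : Subgroup G := cj(e.t, e.P)
/-- The involution `t z t`. -/
def z2 : G := e.t * e.z * e.t⁻¹
/-- The involution `t β t`. -/
def β2 : G := e.t * e.β * e.t⁻¹
/-- `T × T2`. -/
def S0 : Subgroup G := e.T ⊔ e.T2
/-- The normaliser of both factors. -/
def N0 : Subgroup G := 𝐍[e.A] ⊓ 𝐍[e.B]
/-- The subgroup permuting the two factors. -/
def Ns : Subgroup G := e.N0 ⊔ zpowers e.t
/-- An element interchanging the two factors. -/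
def Sw (s : G) : Prop := cj(s, e.A) = e.B ∧ cj(s, e.B) = e.A
/-- An element of one of the two factors. -/
def Pure (w : G) : Prop := w ∈ e.A ∨ w ∈ e.B

/-- A Sylow 2-subgroup of `Ns` containing `S0` and `t`. -/
structure Sy (S : Subgroup G) : Prop where
  syl : Syl 2 S e.Ns
  le0 : e.S0 ≤ S
  tS : e.t ∈ S
  infA : S ⊓ e.A = e.T
  infB : S ⊓ e.B = e.T2
  infAB : S ⊓ (e.A ⊔ e.B) = e.S0
  cen : ∀ s ∈ S, s ∈ 𝐂[e.A] → s ∈ 𝐂[e.B] → s = 1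
  in0 : ∀ s ∈ S, s ∈ e.A ⊔ 𝐂[e.A] → s ∈ e.B ⊔ 𝐂[e.B] → s ∈ e.S0
  com : ⁅S ⊓ e.N0, S ⊓ e.N0⁆ ≤ e.S0
  cen0 : ∀ s ∈ S, s ∈ 𝐂[e.S0] → s = 1 ∨ s = e.z ∨ s = e.z2 ∨ s = e.z * e.z2
  sw : ∀ s ∈ S, s ∉ e.N0 → Nat.card (S ⊓ C1 s : Subgroup G) ≤ 4 * Nat.card e.T

end En

end Cfsg.Agent.Wy
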