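import Mathlib
import Cfsg.Agent.Wy.EA
import Cfsg.Agent.Inv.SylowElt

/-! A Sylow 2-subgroup of the group permuting the two factors. -/

set_option autoImplicit false

namespace Cfsg.Agent.Wy

open Cfsg.Agent.Loc.Mss Cfsg.Agent.Gold Cfsg.Agent.Wr Cfsg.Agent.Wz Subgroup

universe u

variable {G : Type u} [Group G] [Finite G]

namespace E2

theorem card_le_two_mul {A H : Subgroup G} (h : ∀ a ∈ A, ∀ b ∈ A, a ∈ H ∨ b ∈ H ∨ a * b ∈ H) :
    Nat.card A ≤ 2 * Nat.card (A ⊓ H : Subgroup G) := by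
  by_cases h1 : A ≤ H
  · rw [inf_eq_left.2 h1]; omega
  obtain ⟨a, ha, a1⟩ := SetLike.not_le_iff_exists.1 h1
  have h2 : H.relIndex A = 2 := relIndex_eq_two_iff.2 ⟨a, ha, fun b hb => by
    by_cases e : b ∈ H
    · exact .inr ⟨e, fun e' => a1 ((mul_mem_cancel_left e).1 e')⟩
    · exact .inl ⟨((h b hb a ha).resolve_left e).resolve_left a1, e⟩⟩
  have h3 := (H.subgroupOf A).index_mul_card
  rw [← inf_subgroupOf_left, ← relIndex, inf_relIndex_left, h2,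
    Nat.card_congr (subgroupOfEquivOfLe inf_le_left).toEquiv] at h3
  exact h3.ge

variable (e : En G)

theorem T_le : e.T ≤ e.A := e.lw.syl.le
theorem T2_le : e.T2 ≤ e.B := e.lwB.syl.le

theorem norm_AB : e.Ns ≤ 𝐍[e.A ⊔ e.B] := fun g hg => by
  rcases e.mem_Ns.1 hg with h | h
  · exact norm_sup (X := e.N0) inf_le_left inf_le_right h
  · rw [← cj_eq_iff, cj_sup, h.1, h.2, sup_comm]

theorem t_norm : e.t ∈ 𝐍[e.S0] := by
  rw [← cj_eq_iff, En.S0, cj_sup, En.T2, cj_cj, e.tt, cj_one, sup_comm]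

theorem pg_t : IsPGroup 2 (zpowers e.t) := pg_iff.2 fun _ ⟨i, hi⟩ => ⟨1, by
  rw [← hi, ← zpow_natCast, ← zpow_mul, mul_comm, zpow_mul, zpow_natCast, pow_one, sq, e.tt, one_zpow]⟩

theorem inn_le (A : Subgroup G) : A ⊔ 𝐂[A] ≤ 𝐍[A] := sup_le le_normalizer (cent_le_norm A)

variable {e} {S : Subgroup G} (hS : Syl 2 S e.Ns) (h0 : e.S0 ≤ S) (ht : e.t ∈ S)
include hS

theorem two {s : G} (hs : s ∈ S) : Two s := pg_iff.1 hS.pg s hs

include h0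

theorem infA : S ⊓ e.A = e.T :=
  e.lw.syl.eq_of_le hS.pg.to_inf_left (le_inf (le_sup_left.trans h0) (T_le e)) inf_le_right

theorem infB : S ⊓ e.B = e.T2 :=
  e.lwB.syl.eq_of_le hS.pg.to_inf_left (le_inf (le_sup_right.trans h0) (T2_le e)) inf_le_right

theorem normT : S ⊓ e.N0 ≤ 𝐍[e.T] := by
  rw [← infA hS h0]
  exact norm_inf (norm_of_le inf_le_left) (inf_le_right.trans inf_le_left)

theorem normT2 : S ⊓ e.N0 ≤ 𝐍[e.T2] := by
  rw [← infB hS h0]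
  exact norm_inf (norm_of_le inf_le_left) (inf_le_right.trans inf_le_right)

include ht

omit h0 in
theorem cen {s : G} (hs : s ∈ S) (h1 : s ∈ 𝐂[e.A]) (h2 : s ∈ 𝐂[e.B]) : s = 1 := by
  by_contra hne
  have hN : S ≤ 𝐍[𝐂[e.A ⊔ e.B]] := norm_cent (hS.le.trans (norm_AB e))
  obtain ⟨k, hk, k2, hk'⟩ := Inv.exists_central_mem_of_normalized hS.pg (N := S ⊓ 𝐂[e.A ⊔ e.B]) inf_le_left
    (fun h => hne (mem_bot.1 (h ▸ mem_inf.2 ⟨hs, by rw [cent_sup]; exact ⟨h1, h2⟩⟩)))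
    fun g hg x hx => mem_inf.2 ⟨mul_mem (mul_mem hg hx.1) (inv_mem hg), conj_mem_of_norm (hN hg) hx.2⟩
  rcases e.two k (cent_anti e.L_le hk.2) (hk' _ ht).eq.symm (two hS hk.1) with h | h
  · rw [h, orderOf_one] at k2
    omega
  · exact e.A_ne (cj_of_cent (cent_anti le_sup_left (h ▸ hk.2))).symm

theorem in0 {s : G} (hs : s ∈ S) (h1 : s ∈ e.A ⊔ 𝐂[e.A]) (h2 : s ∈ e.B ⊔ 𝐂[e.B]) : s ∈ e.S0 := by
  have hn : s ∈ S ⊓ e.N0 := ⟨hs, inn_le _ h1, inn_le _ h2⟩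
  obtain ⟨a, ha, a1⟩ := e.lw.inner_T h1 (two hS hs) (normT hS h0 hn)
  obtain ⟨b, hb, b1⟩ := e.lwB.inner_T h2 (two hS hs) (normT2 hS h0 hn)
  have c : a⁻¹ * b⁻¹ = b⁻¹ * a⁻¹ := mem_cent.1 (e.B_cent (inv_mem (T2_le e hb))) _ (inv_mem (T_le e ha))
  have k := cen hS ht (s := b⁻¹ * (a⁻¹ * s))
    (mul_mem (inv_mem (h0 (mem_sup_right hb))) (mul_mem (inv_mem (h0 (mem_sup_left ha))) hs))
    (mul_mem (inv_mem (e.B_cent (T2_le e hb))) a1) (by
      rw [← mul_assoc, ← c, mul_assoc]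
      exact mul_mem (inv_mem (e.A_cent (T_le e ha))) b1)
  rw [inv_mul_eq_one, eq_comm, inv_mul_eq_iff_eq_mul] at k
  rw [k]
  exact mul_mem (mem_sup_left ha) (mem_sup_right hb)

theorem cen0 {s : G} (hs : s ∈ S) (hc : s ∈ 𝐂[e.S0]) : s = 1 ∨ s = e.z ∨ s = e.z2 ∨ s = e.z * e.z2 := by
  have zT := e.lw.zT
  have zT2 := e.lwB.zT
  have hn : s ∈ e.N0 := by
    by_contra h
    have k := conj_mem_cj (g := s) (T_le e zT)
    rw [(e.sw_of (hS.le hs) h).1, ← mem_cent.1 hc _ (mem_sup_left zT), mul_inv_cancel_right] at k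
    exact e.lw.z1 (e.eq_one (T_le e zT) k ⟨1, by rw [pow_one, sq, e.lw.zz]⟩)
  have z1 : e.z ∈ S := h0 (mem_sup_left zT)
  have z2 : e.z2 ∈ S := h0 (mem_sup_right zT2)
  have c1 : e.z ∈ 𝐂[e.B] := e.A_cent (T_le e zT)
  have c2 : e.z2 ∈ 𝐂[e.A] := e.B_cent (T2_le e zT2)
  have i1 : e.z⁻¹ = e.z := inv_eq_of_mul_eq_one_right e.lw.zz
  have i2 : e.z2⁻¹ = e.z2 := inv_eq_of_mul_eq_one_right e.lwB.zz
  have c : e.z * e.z2 = e.z2 * e.z := mem_cent.1 c2 _ (T_le e zT)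
  rcases e.lw.cenT hn.1 (cent_anti le_sup_left hc) with a | a <;>
    rcases e.lwB.cenT hn.2 (cent_anti le_sup_right hc) with b | b
  · exact Or.inl (cen hS ht hs a b)
  · have := cen hS ht (mul_mem hs z2) (mul_mem a c2) b
    rw [mul_eq_one_iff_eq_inv, i2] at this
    exact Or.inr (Or.inr (Or.inl this))
  · have := cen hS ht (mul_mem hs z1) a (mul_mem b c1)
    rw [mul_eq_one_iff_eq_inv, i1] at this
    exact Or.inr (Or.inl this)
  · have := cen hS ht (mul_mem (mul_mem hs z1) z2) (mul_mem a c2) (by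
      rw [mul_assoc, c, ← mul_assoc]
      exact mul_mem b c1)
    rw [mul_assoc, mul_eq_one_iff_eq_inv, mul_inv_rev, i1, i2, ← c] at this
    exact Or.inr (Or.inr (Or.inr this))

theorem sw {s : G} (hs : s ∈ S) (hn : s ∉ e.N0) : Nat.card (S ⊓ C1 s : Subgroup G) ≤ 4 * Nat.card e.T := by
  have w := e.sw_of (hS.le hs) hn
  have h1 := card_le_two_mul (A := S ⊓ C1 s) (H := e.N0) fun a ha b hb => by
    by_contra h
    push Not at h
    exact h.2.2 (e.mul_mem_N0 (e.sw_of (hS.le ha.1) h.1) (e.sw_of (hS.le hb.1) h.2.1))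
  have h2 := card_le_two_mul (A := S ⊓ C1 s ⊓ e.N0) (H := e.A ⊔ 𝐂[e.A]) fun a ha b hb =>
    e.lw.idx a ha.2.1 b hb.2.1
  have h3 : ∀ r : (S ⊓ C1 s ⊓ e.N0 ⊓ (e.A ⊔ 𝐂[e.A]) : Subgroup G), ∃ a : e.T, ∃ b ∈ e.T2, (r : G) = a * b := by
    rintro ⟨r, ⟨⟨r1, r2⟩, -⟩, r4⟩
    have k := conj_mem_cj (g := s) r4
    rw [cj_sup, cj_cent, w.1, ← mem_centralizer_singleton_iff.1 r2, mul_inv_cancel_right] at k
    obtain ⟨a, ha, b, hb, e1⟩ := e.mem_S0.1 (in0 hS h0 ht r1 r4 k)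
    exact ⟨⟨a, ha⟩, b, hb, e1⟩
  choose f g hg hf using h3
  have h4 := Nat.card_le_card_of_injective f fun r r' h => by
    have e1 : (r : G)⁻¹ * r' = (g r)⁻¹ * g r' := by rw [hf r, hf r', h]; group
    have m := mul_mem (inv_mem r.2) r'.2
    have mB : (r : G)⁻¹ * r' ∈ e.B := e1 ▸ T2_le e (mul_mem (inv_mem (hg r)) (hg r'))
    have k := conj_mem_cj (g := s) mB
    rw [w.2, ← mem_centralizer_singleton_iff.1 m.1.1.2, mul_inv_cancel_right] at k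
    exact Subtype.ext (inv_mul_eq_one.1 (e.eq_one k mB (two hS m.1.1.1)))
  omega

end E2

open E2

theorem En.exists_sy (e : En G) : ∃ S, e.Sy S := by
  obtain ⟨S, h1, hS⟩ := Syl.exists_ge (p := 2) (L := e.Ns) (pg_sup' e.pg_S0 (pg_t e) (zpowers_le.2 (t_norm e)))
    (sup_le_sup_right ((sup_le_sup (T_le e) (T2_le e)).trans e.AB_le) _)
  have h0 : e.S0 ≤ S := le_sup_left.trans h1
  have ht : e.t ∈ S := h1 (mem_sup_right (mem_zpowers _))
  refine ⟨S, hS, h0, ht, infA hS h0, infB hS h0, le_antisymm (fun s hs => in0 hS h0 ht hs.1 ?_ ?_)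
    (le_inf h0 (sup_le_sup (T_le e) (T2_le e))), fun _ => cen hS ht, fun _ => in0 hS h0 ht,
    commutator_le.2 fun g hg g' hg' => in0 hS h0 ht ?_ (e.lw.comm_inner hg.2.1 hg'.2.1)
      (e.lwB.comm_inner hg.2.2 hg'.2.2), fun _ => cen0 hS h0 ht, fun _ => sw hS h0 ht⟩
  · exact sup_le_sup_left e.B_cent _ hs.2
  · exact sup_le (e.A_cent.trans le_sup_right) le_sup_left hs.2
  · exact mul_mem (mul_mem (mul_mem hg.1 hg'.1) (inv_mem hg.1)) (inv_mem hg'.1)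

end Cfsg.Agent.Wy
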