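import Mathlib
import Cfsg.Agent.Wy.EA

set_option autoImplicit false
set_option linter.unusedSectionVars false

namespace Cfsg.Agent.Wy

open Cfsg.Agent.Loc.Mss Cfsg.Agent.Gold Cfsg.Agent.Wr Cfsg.Agent.Wz Subgroup

universe u

variable {G : Type u} [Group G] [Finite G]

namespace EK

theorem card_le_two_mul {A H : Subgroup G} (h : ∀ a ∈ A, ∀ b ∈ A, a ∈ H ∨ b ∈ H ∨ a * b ∈ H) :
    Nat.card A ≤ 2 * Nat.card (A ⊓ H : Subgroup G) := by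
  by_cases h1 : A ≤ H
  · rw [inf_eq_left.2 h1]; omega
  obtain ⟨a, ha, a1⟩ := SetLike.not_le_iff_exists.1 h1
  have h2 : H.relIndex A = 2 := relIndex_eq_two_iff.2 ⟨a, ha, fun b hb => by
    by_cases e : b ∈ H
    · exact .inr ⟨e, fun e' => a1 ((mul_mem_cancel_left e).1 e')⟩
    · exact .inl ⟨((h b hb a ha).resolve_left e).resolve_left a1, e⟩⟩
  have h3 := GT.PG.relIndex_mul_card_inf H A
  rw [h2, inf_comm] at h3
  exact h3.ge

theorem mul_iff {H M : Subgroup G} (hle : H ≤ M) (hc : Nat.card M ≤ 2 * Nat.card H) {a b : G} (ha : a ∈ M)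
    (hb : b ∈ M) : a * b ∈ H ↔ (a ∈ H ↔ b ∈ H) := by
  have h1 := GT.PG.relIndex_mul_card_inf H M
  rw [inf_eq_left.2 hle] at h1
  have h2 : 0 < Nat.card H := Nat.card_pos
  have h3 : 0 < Nat.card M := Nat.card_pos
  have h4 : H.relIndex M ≤ 2 := by rw [← h1] at hc; exact Nat.le_of_mul_le_mul_right hc h2
  have h5 : H.relIndex M ≠ 0 := fun e => by rw [e] at h1; omega
  rcases (by omega : H.relIndex M = 1 ∨ H.relIndex M = 2) with e | e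
  · have := relIndex_eq_one.1 e
    simp [this ha, this hb, this (mul_mem ha hb)]
  · exact mul_mem_iff_of_index_two (a := (⟨a, ha⟩ : M)) (b := ⟨b, hb⟩) e

variable {e : En G} {S : Subgroup G}

theorem big (h : e.Sy S) {D U : Subgroup G} {m x : G} (hm : cj(m, D) ≤ S) (hx : x ∈ D) (hU : U ≤ D ⊓ C1 x)
    (hc : 4 * Nat.card e.T < Nat.card U) : x ∈ cj(m⁻¹, e.N0) := by
  rw [mem_cj, inv_inv]
  by_contra hn
  have h1 := h.sw _ (hm (conj_mem_cj hx)) hn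
  have h2 : cj(m, U) ≤ S ⊓ C1 (m * x * m⁻¹) := cj_le_iff.2 fun u hu =>
    ⟨hm (conj_mem_cj (hU hu).1), mem_centralizer_singleton_iff.2 (by
      have := mem_centralizer_singleton_iff.1 (hU hu).2
      calc _ = m * (u * x) * m⁻¹ := by group
        _ = _ := by rw [this]; group)⟩
  have h3 := card_le_of_le h2
  rw [card_cj] at h3
  omega

theorem nT (h : e.Sy S) : S ⊓ e.N0 ≤ 𝐍[e.T] :=
  h.infA ▸ norm_inf (norm_of_le inf_le_left) (inf_le_right.trans inf_le_left)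

theorem zc (h : e.Sy S) {s : G} (hs : s ∈ S ⊓ e.N0) : s * e.z = e.z * s := by
  rcases e.lw.eq_z (conj_mem_of_norm (nT h hs) e.lw.zT) (conj_mem_of_norm (norm_cent (nT h) hs) e.lw.zc) with e1 | e1
  · exact absurd (by simpa using e1) e.lw.z1
  · exact mul_inv_eq_iff_eq_mul.1 e1

theorem two (h : e.Sy S) {s : G} (hs : s ∈ S) : Two s := pg_iff.1 h.syl.pg s hs

theorem TS (h : e.Sy S) : e.T ≤ S ⊓ e.N0 :=
  le_inf (le_sup_left.trans h.le0) (e.lw.syl.le.trans (le_sup_left.trans e.AB_le))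

theorem TK {a : G} (ha : a ∈ e.T) (hc : a ∈ 𝐂[e.A]) : a = 1 :=
  e.lw.two_eq (e.lw.syl.le ha) (pg_iff.1 e.lw.syl.pg a ha) hc

theorem nK : S ⊓ e.N0 ≤ 𝐍[S ⊓ e.N0 ⊓ 𝐂[e.A]] :=
  norm_inf le_normalizer (norm_cent (inf_le_right.trans inf_le_left))

theorem card_le (h : e.Sy S) : Nat.card (S ⊓ e.N0 : Subgroup G) ≤
    2 * (Nat.card e.T * Nat.card (S ⊓ e.N0 ⊓ 𝐂[e.A] : Subgroup G)) := by
  refine (card_le_two_mul (A := S ⊓ e.N0) (H := e.A ⊔ 𝐂[e.A]) fun a ha b hb => e.lw.idx a ha.2.1 b hb.2.1).trans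
    (Nat.mul_le_mul_left _ ?_)
  rw [← GT.PG.card_sup_of_inf_eq_bot ((TS h).trans nK) (eq_bot_iff.2 fun a ha => TK ha.1 ha.2.2)]
  refine card_le_of_le fun s hs => ?_
  obtain ⟨a, ha, h1⟩ := e.lw.inner_T hs.2 (two h hs.1.1) (nT h hs.1)
  rw [← mul_inv_cancel_left a s]
  exact mul_mem (mem_sup_left ha) (mem_sup_right (mem_inf.2 ⟨mul_mem (inv_mem (TS h ha)) hs.1, h1⟩))

end EK

open EK

namespace En.Sy

variable {e : En G} {S : Subgroup G} (h : e.Sy S)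
include h

theorem into {C : Subgroup G} (hC : C = e.P ∨ C = e.T) {m : G} (hm : cj(m, C ⊔ e.T2) ≤ S) :
    cj(m, C ⊔ e.T2) ≤ e.N0 := by
  have hP : e.P ≤ C := by rcases hC with rfl | rfl; exacts [le_rfl, e.lw.PT]
  have hT : C ≤ e.T := by rcases hC with rfl | rfl; exacts [e.lw.PT, le_rfl]
  have c1 : ∀ x ∈ e.T, e.T2 ≤ C1 x := fun x hx b hb => mem_centralizer_singleton_iff.2
    (mem_cent.1 (e.B_cent (e.lwB.syl.le hb)) x (e.lw.syl.le hx)).symm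
  have c2 : ∀ x ∈ e.T2, e.T ≤ C1 x := fun x hx b hb => mem_centralizer_singleton_iff.2
    (mem_cent.1 (e.B_cent (e.lwB.syl.le hx)) b (e.lw.syl.le hb))
  have k1 : ∀ x ∈ C, 4 * Nat.card e.T < Nat.card (C ⊓ C1 x : Subgroup G) * Nat.card e.T → x ∈ cj(m⁻¹, e.N0) :=
    fun x hx hc => big h hm (mem_sup_left hx) (U := C ⊓ C1 x ⊔ e.T2)
      (sup_le (inf_le_inf_right _ le_sup_left) (le_inf le_sup_right (c1 x (hT hx))))
      (by rwa [e.card_sup (inf_le_left.trans hT) le_rfl, e.card_T2])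
  refine cj_le_iff_le_inv.2 (sup_le ?_ (e.lwB.genT.trans ((closure_le _).2 ?_)))
  · rcases hC with rfl | rfl
    · exact e.lw.genP.trans ((closure_le _).2 fun x hx => k1 x hx.1 (Nat.mul_lt_mul_of_pos_right hx.2.2 Nat.card_pos))
    · exact e.lw.genT.trans ((closure_le _).2 fun x hx => k1 x hx.1 (hx.2.2.trans_le (by
        rw [mul_comm]; exact Nat.mul_le_mul_left _ (card_le_of_le e.lw.PT))))
  · rintro x ⟨hx, -, hc⟩
    refine big h hm (mem_sup_right hx) (U := e.P ⊔ e.T2 ⊓ C1 x)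
      (sup_le (le_inf (hP.trans le_sup_left) (e.lw.PT.trans (c2 x hx))) (inf_le_inf_right _ le_sup_right)) ?_
    rwa [e.card_sup e.lw.PT inf_le_left, ← e.card_T2, ← e.card_P2]

theorem kk1 {Y : Subgroup G} {w : G} (hY : Y ≤ S ⊓ e.N0) (hc : Nat.card Y = Nat.card e.T) (hw : w ∈ Y)
    (hw' : w ∈ 𝐂[Y]) (hZ : ∀ c ∈ Y, c ∈ 𝐂[Y] → c = 1 ∨ c = w) (hA : w ∉ 𝐂[e.A]) :
    w * e.z ∈ 𝐂[e.A] ∧ ∀ c ∈ S ⊓ e.N0, c ∈ 𝐂[Y] → c ∈ 𝐂[e.A] ∨ c * e.z ∈ 𝐂[e.A] := by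
  have _ := hw'
  set K := S ⊓ e.N0 ⊓ 𝐂[e.A] with hK
  have pY : IsPGroup 2 Y := h.syl.pg.to_le (hY.trans inf_le_left)
  have nY : Y ≤ 𝐍[K] := hY.trans nK
  have hb : Y ⊓ K = ⊥ := by
    by_contra hn
    obtain ⟨⟨c, hc1⟩, hc2⟩ := (ne_bot_iff_exists_ne_one.1 (GT.PG.inf_centralizer_ne_bot_of_isPGroup
      (pY.to_le inf_le_left) pY (norm_inf le_normalizer nY) hn))
    rcases hZ c hc1.1.1 hc1.2 with rfl | rfl
    exacts [hc2 rfl, hA hc1.1.2.2]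
  have hle : Y ⊔ K ≤ S ⊓ e.N0 := sup_le hY inf_le_left
  have hi := fun a b => mul_iff hle (a := a) (b := b)
    (by rw [GT.PG.card_sup_of_inf_eq_bot nY hb, hc]; exact card_le h)
  have key : ∀ c ∈ Y ⊔ K, c ∈ 𝐂[Y] → c ∈ K ∨ w * c ∈ K := fun c hc1 hc2 => by
    obtain ⟨y, hy, k, hk, rfl⟩ := (mem_sup_norm' nY).1 hc1
    have h1 : y ∈ 𝐂[Y] := mem_cent.2 fun a ha => by
      have h2 : y⁻¹ * a⁻¹ * y * a ∈ Y ⊓ K := mem_inf.2 ⟨mul_mem (mul_mem (mul_mem (inv_mem hy) (inv_mem ha)) hy) ha, by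
        have : y⁻¹ * a⁻¹ * y * a = k * (a⁻¹ * k⁻¹ * a) := by
          calc _ = y⁻¹ * a⁻¹ * (y * k) * k⁻¹ * a := by group
            _ = _ := by rw [mul_assoc y⁻¹, mem_cent.1 hc2 _ (inv_mem ha)]; group
        rw [this]
        exact mul_mem hk (conj_mem_of_norm' (nY ha) (inv_mem hk))⟩
      rw [hb, mem_bot] at h2
      calc a * y = a * y * (y⁻¹ * a⁻¹ * y * a) := by rw [h2, mul_one]
        _ = _ := by group
    rcases hZ y hy h1 with rfl | rfl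
    · exact Or.inl (by rwa [one_mul])
    · refine Or.inr ?_
      rcases hZ _ (mul_mem hy hy) (mul_mem h1 h1) with e1 | e1
      · rwa [← mul_assoc, e1, one_mul]
      · exact absurd (mul_eq_left.1 e1 ▸ one_mem _) hA
  have hz : e.z ∈ Y ⊔ K := (commutator_le.2 fun a ha b hb => by
    have a1 := TS h ha
    have b1 := TS h hb
    rw [commutatorElement_def, mul_assoc, hi _ _ (mul_mem a1 b1) (mul_mem (inv_mem a1) (inv_mem b1)), hi _ _ a1 b1,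
      hi _ _ (inv_mem a1) (inv_mem b1), inv_mem_iff, inv_mem_iff] : ⁅e.T, e.T⁆ ≤ Y ⊔ K) e.lw.zD
  have hwz : w * e.z ∈ K :=
    (key _ hz (mem_cent.2 fun a ha => zc h (hY ha))).resolve_left fun h1 => e.lw.z1 (TK e.lw.zT h1.2)
  refine ⟨hwz.2, fun c hc1 hc2 => ?_⟩
  by_cases h1 : c ∈ Y ⊔ K
  · refine (key c h1 hc2).imp (fun h2 => h2.2) fun h2 => ?_
    have : c * e.z = (w * e.z)⁻¹ * (w * c) := by
      rw [zc h hc1, mul_inv_rev, inv_eq_of_mul_eq_one_right e.lw.zz]; group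
    rw [this]
    exact mul_mem (inv_mem hwz.2) h2.2
  refine e.lw.cenT hc1.2.1 (mem_cent.2 fun a ha => ?_)
  have h2 : ∀ s ∈ Y ⊔ K, s * c * s⁻¹ * c⁻¹ ∈ K := fun s hs => by
    obtain ⟨y, hy, k, hk, rfl⟩ := (mem_sup_norm' nY).1 hs
    have : y * k * c * (y * k)⁻¹ * c⁻¹ = y * (k * (c * k⁻¹ * c⁻¹)) * y⁻¹ := by
      calc _ = y * k * c * k⁻¹ * (c * y)⁻¹ := by group
        _ = _ := by rw [← mem_cent.1 hc2 y hy]; group
    rw [this]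
    exact conj_mem_of_norm (nY hy) (mul_mem hk (conj_mem_of_norm (nK hc1) (inv_mem hk)))
  have h3 : a * c * a⁻¹ * c⁻¹ ∈ K := by
    by_cases h4 : a ∈ Y ⊔ K
    · exact h2 a h4
    · have := h2 _ ((hi _ _ (TS h ha) hc1).2 (iff_of_false h4 h1))
      rwa [show a * c * c * (a * c)⁻¹ * c⁻¹ = a * c * a⁻¹ * c⁻¹ by group] at this
  have h5 : a * (c * a⁻¹ * c⁻¹) ∈ e.T := mul_mem ha (conj_mem_of_norm (nT h hc1) (inv_mem ha))
  have h6 := TK h5 (by simpa only [mul_assoc] using (mem_inf.1 h3).2)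
  calc a * c = a * (c * a⁻¹ * c⁻¹) * (c * a) := by group
    _ = _ := by rw [h6, one_mul]

theorem kk2 {Y C : Subgroup G} {w : G} (hY : Y ≤ S ⊓ e.N0) (hc : Nat.card Y = Nat.card e.T) (hw : w ∈ Y)
    (hw' : w ∈ 𝐂[Y]) (hZ : ∀ c ∈ Y, c ∈ 𝐂[Y] → c = 1 ∨ c = w) (hA : w ∉ 𝐂[e.A]) (hB : w ∈ 𝐂[e.B])
    (hC : C ≤ S ⊓ e.N0) (hC' : C ≤ 𝐂[Y]) : w = e.z ∧ ⁅C, C⁆ ≤ e.T2 := by
  obtain ⟨h1, h2⟩ := h.kk1 hY hc hw hw' hZ hA
  have zA := e.lw.syl.le e.lw.zT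
  have zi : e.z⁻¹ = e.z := inv_eq_of_mul_eq_one_right e.lw.zz
  refine ⟨zi ▸ eq_inv_of_mul_eq_one_left
    (h.cen _ (mul_mem (hY hw).1 (TS h e.lw.zT).1) h1 (mul_mem hB (e.A_cent zA))), fun s hs => ?_⟩
  have h3 : C ≤ 𝐂[e.A] ⊔ zpowers e.z := fun c hc => (h2 c (hC hc) (hC' hc)).elim mem_sup_left fun h3 =>
    (mul_mem_cancel_right (mem_sup_right (mem_zpowers _))).1 (mem_sup_left h3)
  have h4 : zpowers e.z ≤ 𝐍[𝐂[e.A]] := norm_cent (norm_of_le (zpowers_le.2 zA))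
  have h5 : ⁅𝐂[e.A] ⊔ zpowers e.z, 𝐂[e.A] ⊔ zpowers e.z⁆ ≤ 𝐂[e.A] :=
    sup_comm_le le_normalizer h4 (Loc.Mss.comm_le_left (sup_le le_normalizer h4))
      (comm_sup_le le_normalizer h4 (Loc.Mss.comm_le_right h4) ((comm_eq_bot_iff.2 (le_centralizer _)).le.trans bot_le))
  obtain ⟨a, ha, b, hb, rfl⟩ := e.mem_S0.1 (h.com (commutator_mono hC hC hs))
  rwa [TK ha ((mul_mem_cancel_right (e.B_cent (e.lwB.syl.le hb))).1 (h5 (commutator_mono h3 h3 hs))), one_mul]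

theorem kk {C : Subgroup G} (hC : C = e.P ∨ C = e.T) {m : G} (hm : cj(m, C ⊔ e.T2) ≤ S) :
    (m * e.z2 * m⁻¹ = e.z ∧ cj(m, ⁅C, C⁆) ≤ e.T2) ∨ (m * e.z2 * m⁻¹ = e.z2 ∧ cj(m, ⁅C, C⁆) ≤ e.T) := by
  have hP : e.P ≤ C := by rcases hC with rfl | rfl; exacts [le_rfl, e.lw.PT]
  have hT : C ≤ e.T := by rcases hC with rfl | rfl; exacts [e.lw.PT, le_rfl]
  have h0 := le_inf hm (h.into hC hm)
  have hY := (cj_mono m le_sup_right).trans h0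
  have hD := (cj_mono m le_sup_left).trans h0
  have hY' : cj(m, e.T2) ≤ S ⊓ e.flip.N0 := by rwa [e.flip_N0]
  have hD' : cj(m, C) ≤ S ⊓ e.flip.N0 := by rwa [e.flip_N0]
  have hc : cj(m, C) ≤ 𝐂[cj(m, e.T2)] := by
    rw [← cj_cent]; exact cj_mono m (hT.trans (e.lw.syl.le.trans (e.A_cent.trans (cent_anti e.lwB.syl.le))))
  have l := e.lwB.cj m
  have c1 : Nat.card cj(m, e.T2) = Nat.card e.T := by rw [card_cj, e.card_T2]
  have c2 : Nat.card cj(m, e.T2) = Nat.card e.flip.T := card_cj _ _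
  have hZ := fun c h1 h2 => l.eq_z (w := c) h1 h2
  rw [cj_comm]
  by_cases hA : m * e.z2 * m⁻¹ ∈ 𝐂[e.A]
  · have := h.flip.kk2 hY' c2 l.zT l.zc hZ (fun hB => l.z1 (h.cen _ (hY l.zT).1 hA hB)) (by rwa [e.flip_B]) hD' hc
    rw [e.flip_T2] at this
    exact Or.inr this
  by_cases hB : m * e.z2 * m⁻¹ ∈ 𝐂[e.B]
  · exact Or.inl (h.kk2 hY c1 l.zT l.zc hZ hA hB hD hc)
  exfalso
  have k1 : ∀ {e : En G} {c : G}, c ∈ 𝐂[e.A] ∨ c * e.z ∈ 𝐂[e.A] → c ∈ 𝐂[e.T] := fun {e c} h =>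
    h.elim (fun h => cent_anti e.lw.syl.le h) fun h => (mul_mem_cancel_right e.lw.zc).1 (cent_anti e.lw.syl.le h)
  have k2 : ∀ c ∈ cj(m, C), c ∈ 𝐂[e.S0] := fun c h1 => by
    rw [En.S0, cent_sup]
    exact ⟨k1 ((h.kk1 hY c1 l.zT l.zc hZ hA).2 c (hD h1) (hc h1)),
      k1 (e := e.flip) ((h.flip.kk1 hY' c2 l.zT l.zc hZ hB).2 c (hD' h1) (hc h1))⟩
  classical
  have k3 : Nat.card cj(m, C) ≤ 4 := by
    have h1 : ((cj(m, C) : Subgroup G) : Set G) ⊆ ↑({1, e.z, e.z2, e.z * e.z2} : Finset G) :=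
      fun c hc => by simpa using h.cen0 c (hD hc).1 (k2 c hc)
    exact (Set.ncard_le_ncard h1).trans (by rw [Set.ncard_coe_finset]; exact Finset.card_le_four)
  have k4 := card_le_of_le hP
  have k5 := e.lw.four_lt
  rw [card_cj] at k3
  omega

end En.Sy

end Cfsg.Agent.Wy
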