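import Mathlib
import Cfsg.Agent.Wy.EK
import Cfsg.Agent.Wy.E3

set_option autoImplicit false
set_option linter.unusedSectionVars false

namespace Cfsg.Agent.Wy

open Cfsg.Agent.Loc.Mss Cfsg.Agent.Gold Cfsg.Agent.Wr Cfsg.Agent.Wz Subgroup

universe u

variable {G : Type u} [Group G] [Finite G]

theorem mem_C1f {a g : G} : g ∈ C1 a ↔ g * a = a * g := mem_centralizer_singleton_iff

/-- Every involution of `A` is conjugate to an involution of `[C, C]` centralised by `C`, `C = P` or `T`. -/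
theorem _root_.Cfsg.Agent.Wz.Lw.repY {A T P : Subgroup G} {z β : G} (h : Lw A T P z β) {a : G} (ha : a ∈ A) (h2 : a * a = 1)
    (h1 : a ≠ 1) : ∃ l ∈ A, ∃ C c, (C = P ∨ C = T) ∧ C ≤ T ∧ c ∈ ⁅C, C⁆ ∧ c ∈ C ∧ C ≤ C1 c ∧ l * c * l⁻¹ = a := by
  rcases h.cls a ha h2 h1 with ⟨l, hl, e⟩ | ⟨l, hl, e⟩
  · exact ⟨l, hl, T, z, Or.inr rfl, le_rfl, h.zD, h.zT, fun x hx => mem_C1f.2 (mem_cent.1 h.zc x hx), e⟩
  · exact ⟨l, hl, P, β, Or.inl rfl, h.PT, h.bD, h.bP, h.PC, e⟩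

namespace En

variable (e : En G)

theorem TAf : e.T ≤ e.A := e.lw.syl.le
theorem T2Bf : e.T2 ≤ e.B := e.lwB.syl.le

theorem abf_comm {a b : G} (ha : a ∈ e.A) (hb : b ∈ e.B) : a * b = b * a := mem_cent.1 (e.B_cent hb) a ha

theorem pg_sup_T2 {C : Subgroup G} (hC : C ≤ e.T) : IsPGroup 2 (C ⊔ e.T2 : Subgroup G) :=
  e.pg_S0.to_le (sup_le_sup_right hC _)

theorem sup_T2_le {C : Subgroup G} {c : G} (hc : c ∈ e.A) (h : C ≤ C1 c) : C ⊔ e.T2 ≤ C1 c :=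
  sup_le h fun _ hx => mem_C1f.2 (e.abf_comm hc (e.T2Bf hx)).symm

end En

namespace En.Sy

variable {e : En G} {S : Subgroup G} (h : e.Sy S)
include h

theorem pure_ext0 {a g : G} (ha : a ∈ e.A) (h2 : a * a = 1) (h1 : a ≠ 1) (hx : Ext ⊤ S (g * a * g⁻¹)) :
    g * a * g⁻¹ ∈ e.T ∨ g * a * g⁻¹ ∈ e.T2 := by
  obtain ⟨l, -, C, c, hC, hT, hc, hcC, hCc, rfl⟩ := e.lw.repY ha h2 h1
  have e1 : g * (l * c * l⁻¹) * g⁻¹ = g * l * c * (g * l)⁻¹ := by group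
  rw [e1] at hx ⊢
  obtain ⟨m, -, hm, hle⟩ := hx.conj (mem_top _) (e.pg_sup_T2 hT)
    (le_inf le_top (e.sup_T2_le (e.TAf (hT hcC)) hCc))
  rw [← hm]
  rcases h.kk hC hle with ⟨-, k⟩ | ⟨-, k⟩
  · exact Or.inr (k (conj_mem_cj hc))
  · exact Or.inl (k (conj_mem_cj hc))

theorem pure_ext {a g : G} (ha : e.Pure a) (h2 : a * a = 1) (h1 : a ≠ 1) (hx : Ext ⊤ S (g * a * g⁻¹)) :
    g * a * g⁻¹ ∈ e.T ∨ g * a * g⁻¹ ∈ e.T2 := by
  rcases ha with ha | ha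
  · exact h.pure_ext0 ha h2 h1 hx
  · have := h.flip.pure_ext0 (e := e.flip) ha h2 h1 hx
    rw [e.flip_T2] at this
    exact this.symm

theorem mix_ext {v g : G} (hv : v ∈ e.B) (h2 : v * v = 1) (h1 : v ≠ 1) (hx : Ext ⊤ S (g * (e.z * v) * g⁻¹)) :
    ∃ a ∈ e.T, ∃ b ∈ e.T2, a ≠ 1 ∧ b ≠ 1 ∧ g * (e.z * v) * g⁻¹ = a * b := by
  obtain ⟨l, hl, C, c, hC, hT, hc, hcC, hCc, rfl⟩ := e.lwB.repY hv h2 h1
  have zA : e.z ∈ e.A := e.TAf e.lw.zT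
  have cB : c ∈ e.B := e.T2Bf (hT hcC)
  have c1 : c ≠ 1 := fun k => h1 (by rw [k]; group)
  have e1 : g * (e.z * (l * c * l⁻¹)) * g⁻¹ = g * l * (e.z * c) * (g * l)⁻¹ := by
    calc _ = g * (e.z * l) * c * l⁻¹ * g⁻¹ := by group
      _ = _ := by rw [e.abf_comm zA hl]; group
  rw [e1] at hx ⊢
  have hD : C ⊔ e.flip.T2 ≤ ⊤ ⊓ C1 (e.z * c) := by
    rw [e.flip_T2]
    refine le_inf le_top (sup_le (fun x hx => mem_C1f.2 ?_) fun x hx => mem_C1f.2 ?_)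
    · rw [← mul_assoc, ← e.abf_comm zA (e.T2Bf (hT hx)), mul_assoc, mem_C1f.1 (hCc hx), mul_assoc]
    · rw [← mul_assoc, mem_cent.1 e.lw.zc x hx, mul_assoc, e.abf_comm (e.TAf hx) cB, mul_assoc]
  obtain ⟨m, -, hm, hle⟩ := hx.conj (mem_top _) (e.flip.pg_sup_T2 hT) hD
  have n1 : m * c * m⁻¹ ≠ 1 := fun k => c1 (by simpa using k)
  have e2 : m * (e.z * c) * m⁻¹ = m * e.z * m⁻¹ * (m * c * m⁻¹) := by group
  rw [← hm, e2]
  have kk := h.flip.kk (e := e.flip) hC hle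
  rw [e.flip_z2, e.flip_T2] at kk
  rcases kk with ⟨k1, k⟩ | ⟨k1, k⟩
  · have k2 := k (conj_mem_cj hc)
    refine ⟨_, k2, e.z2, e.lwB.zT, n1, e.lwB.z1, ?_⟩
    rw [k1]
    exact (e.abf_comm (e.TAf k2) (e.T2Bf e.lwB.zT)).symm
  · exact ⟨e.z, e.lw.zT, _, k (conj_mem_cj hc), e.lw.z1, n1, by rw [k1]⟩

theorem not_conj1 {a v : G} (ha : e.Pure a) (a2 : a * a = 1) (hv : v ∈ e.B) (h2 : v * v = 1) (h1 : v ≠ 1) (g : G) :
    g * a * g⁻¹ ≠ e.z * v := by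
  intro k
  have zA : e.z ∈ e.A := e.TAf e.lw.zT
  have a1 : a ≠ 1 := by
    rintro rfl
    rw [mul_one, mul_inv_cancel] at k
    refine e.lw.z1 (e.eq_one zA ?_ ⟨1, by rw [pow_one, sq, e.lw.zz]⟩)
    rw [eq_inv_of_mul_eq_one_left k.symm]
    exact inv_mem hv
  have w2 : e.z * v * (e.z * v) = 1 := by
    rw [← k]
    calc _ = g * (a * a) * g⁻¹ := by group
      _ = 1 := by rw [a2]; group
  obtain ⟨g', -, hx⟩ := exists_ext h.sylG (mem_top _) w2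
  obtain ⟨x, hx1, y, hy, x1, y1, exy⟩ := h.mix_ext hv h2 h1 hx
  have e1 : g' * (e.z * v) * g'⁻¹ = g' * g * a * (g' * g)⁻¹ := by rw [← k]; group
  rw [e1] at hx exy
  rcases h.pure_ext ha a2 a1 hx with p | p
  · exact y1 (e.uniq p hx1 (one_mem _) hy ((mul_one _).trans exy)).2.symm
  · exact x1 (e.uniq (one_mem _) hx1 p hy ((one_mul _).trans exy)).1.symm

theorem pure_ne_t0 {a : G} (ha : a ∈ e.A) (g : G) : g * a * g⁻¹ ≠ e.t := by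
  intro k
  have tN : e.t ∉ e.N0 := e.sw_t.notMem
  have a2 : a * a = 1 := by
    have : g * (a * a) * g⁻¹ = 1 := by
      calc _ = g * a * g⁻¹ * (g * a * g⁻¹) := by group
        _ = 1 := by rw [k, e.tt]
    simpa using this
  have a1 : a ≠ 1 := by
    rintro rfl
    rw [mul_one, mul_inv_cancel] at k
    exact tN (k ▸ one_mem _)
  obtain ⟨l, -, C, c, hC, hT, -, hcC, hCc, rfl⟩ := e.lw.repY ha a2 a1
  have e1 : g * l * c * (g * l)⁻¹ = e.t := by rw [← k]; group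
  have hD : cj(g * l, C ⊔ e.T2) ≤ e.Ns := by
    refine le_trans (cj_le_iff.2 fun x hx => mem_C1f.2 ?_) e.cent_le
    have := mem_C1f.1 (e.sup_T2_le (e.TAf (hT hcC)) hCc hx)
    rw [← e1]
    calc _ = g * l * (x * c) * (g * l)⁻¹ := by group
      _ = _ := by rw [this]; group
  obtain ⟨n, hn, hle⟩ := h.syl.conj_le (pg_cj (e.pg_sup_T2 hT) _) hD
  rw [cj_cj] at hle
  have k2 := conj_mem_of_norm' (e.Ns_norm hn) (h.into hC hle (conj_mem_cj (mem_sup_left hcC)))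
  refine tN ?_
  rw [← e1]
  convert k2 using 1
  group

theorem pure_ne_t {a : G} (ha : e.Pure a) (g : G) : g * a * g⁻¹ ≠ e.t := by
  rcases ha with ha | ha
  · exact h.pure_ne_t0 ha g
  · exact h.flip.pure_ne_t0 (e := e.flip) ha g

end En.Sy

end Cfsg.Agent.Wy
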