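import Mathlib
import Cfsg.Agent.Wy.FQ
import Cfsg.Agent.StdB.Gen

set_option autoImplicit false
set_option linter.unusedSectionVars false

namespace Cfsg.Agent.Wy

open Cfsg.Agent.Loc.Mss Cfsg.Agent.Gold Cfsg.Agent.Wr Cfsg.Agent.Wz Subgroup

universe u

variable {G : Type u} [Group G] [Finite G]

theorem cj_C1f (n y : G) : cj(n, C1 y) = C1 (n * y * n⁻¹) := by
  ext x
  rw [mem_cj, mem_C1f, mem_C1f]
  constructor
  · intro k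
    calc _ = n * (n⁻¹ * x * n * y) * n⁻¹ := by group
      _ = _ := by rw [k]; group
  · intro k
    calc _ = n⁻¹ * (x * (n * y * n⁻¹)) * n := by group
      _ = _ := by rw [k]; group

theorem conj_sqf {a : G} (h : a * a = 1) (n : G) : n * a * n⁻¹ * (n * a * n⁻¹) = 1 := by
  calc _ = n * (a * a) * n⁻¹ := by group
    _ = 1 := by rw [h]; group

theorem conj_nef {a : G} (h : a ≠ 1) (n : G) : n * a * n⁻¹ ≠ 1 := fun k => h (by simpa using k)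

namespace En

variable (e : En G)

theorem not_pure_mix {u v : G} (hu : u ∈ e.A) (u2 : u * u = 1) (u1 : u ≠ 1) (hv : v ∈ e.B) (v2 : v * v = 1)
    (v1 : v ≠ 1) : ¬ e.Pure (u * v) := by
  rintro (k | k)
  · exact v1 (e.eq_one ((mul_mem_cancel_left hu).1 k) hv ⟨1, by rw [pow_one, sq, v2]⟩)
  · exact u1 (e.eq_one hu ((mul_mem_cancel_right hv).1 k) ⟨1, by rw [pow_one, sq, u2]⟩)

theorem βA : e.β ∈ e.A := e.TAf (e.lw.PT e.lw.bP)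
theorem β2B : e.β2 ∈ e.B := e.T2Bf (e.lwB.PT e.lwB.bP)

theorem not_pure_ββ {n : G} (hn : n ∈ e.Ns) : ¬ e.Pure (n * (e.β * e.β2) * n⁻¹) := by
  have e1 : n * (e.β * e.β2) * n⁻¹ = n * e.β * n⁻¹ * (n * e.β2 * n⁻¹) := by group
  rw [e1]
  rcases e.mem_Ns.1 hn with k | k
  · exact e.not_pure_mix (conj_mem_of_norm k.1 e.βA) (conj_sqf e.lw.bb n) (conj_nef e.lw.b1 n)
      (conj_mem_of_norm k.2 e.β2B) (conj_sqf e.lwB.bb n) (conj_nef e.lwB.b1 n)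
  · have a : n * e.β * n⁻¹ ∈ e.B := k.1 ▸ conj_mem_cj e.βA
    have b : n * e.β2 * n⁻¹ ∈ e.A := k.2 ▸ conj_mem_cj e.β2B
    rw [← e.abf_comm b a]
    exact e.not_pure_mix b (conj_sqf e.lwB.bb n) (conj_nef e.lwB.b1 n) a (conj_sqf e.lw.bb n) (conj_nef e.lw.b1 n)

theorem Ns_norm_AB : e.Ns ≤ 𝐍[e.A ⊔ e.B] := fun n hn => by
  rw [← cj_eq_iff, cj_sup]
  rcases e.mem_Ns.1 hn with k | k
  · rw [cj_of_norm k.1, cj_of_norm k.2]
  · rw [k.1, k.2, sup_comm]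

theorem PP_le : e.P ⊔ e.P2 ≤ C1 (e.β * e.β2) := by
  refine sup_le (fun x hx => mem_C1f.2 ?_) fun x hx => mem_C1f.2 ?_
  · rw [← mul_assoc, mem_C1f.1 (e.lw.PC hx), mul_assoc, e.abf_comm (e.TAf (e.lw.PT hx)) e.β2B, mul_assoc]
  · rw [← mul_assoc, ← e.abf_comm e.βA (e.T2Bf (e.lwB.PT hx)), mul_assoc, mem_C1f.1 (e.lwB.PC hx), mul_assoc]

theorem PP_S0 : e.P ⊔ e.P2 ≤ e.S0 := sup_le_sup e.lw.PT e.lwB.PT

theorem t_C1 : e.t ∈ C1 (e.β * e.β2) := by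
  refine mem_C1f.2 ?_
  have k := e.abf_comm e.βA e.β2B
  have k1 : e.t * e.β = e.β2 * e.t := by rw [β2]; group
  have k2 : e.t * e.β2 = e.β * e.t := by
    rw [β2, ← mul_assoc, ← mul_assoc, e.tt, one_mul, e.ti]
  rw [← mul_assoc, k1, mul_assoc, k2, ← mul_assoc, ← k]

end En

namespace En.Sy

variable {e : En G} {S : Subgroup G} (h : e.Sy S)
include h

theorem exists_Q : ∃ Q, Syl 2 Q (C1 (e.β * e.β2)) ∧ Q ⊓ (e.A ⊔ e.B) = e.P ⊔ e.P2 ∧ ∃ n ∈ e.Ns, cj(n, Q) ≤ S := by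
  have h1 : e.P ⊔ e.P2 ⊔ zpowers e.t ≤ S := sup_le (e.PP_S0.trans h.le0) (zpowers_le.2 h.tS)
  obtain ⟨Q, hle, hQ⟩ := Syl.exists_ge (h.syl.pg.to_le h1)
    (le_inf (h1.trans h.syl.le) (sup_le e.PP_le (zpowers_le.2 e.t_C1)))
  obtain ⟨a, b⟩ := h.sylQ hQ (le_sup_left.trans hle) (hle (mem_sup_right (mem_zpowers _)))
  exact ⟨Q, a, b, h.syl.conj_le hQ.pg (hQ.le.trans inf_le_left)⟩

theorem ne_ββ0 {a : G} (ha : a ∈ e.A) (a2 : a * a = 1) (g : G) : g * a * g⁻¹ ≠ e.β * e.β2 := by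
  intro k
  have a1 : a ≠ 1 := by
    rintro rfl
    refine e.not_pure_ββ (one_mem _) (Or.inl ?_)
    rw [← k]
    simp
  obtain ⟨l, -, C, c, hC, hT, hc, hcC, hCc, rfl⟩ := e.lw.repY ha a2 a1
  have e1 : g * l * c * (g * l)⁻¹ = e.β * e.β2 := by rw [← k]; group
  obtain ⟨Q, hQ, -, n, hn, hle⟩ := h.exists_Q
  have hD : cj(g * l, C ⊔ e.T2) ≤ C1 (e.β * e.β2) := by
    rw [← e1, ← cj_C1f]
    exact cj_mono _ (e.sup_T2_le (e.TAf (hT hcC)) hCc)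
  obtain ⟨y, hy, hle2⟩ := hQ.conj_le (pg_cj (e.pg_sup_T2 hT) _) hD
  have hle3 := (cj_mono n hle2).trans hle
  rw [cj_cj, cj_cj] at hle3
  have e2 : n * y * (g * l) * c * (n * y * (g * l))⁻¹ = n * (e.β * e.β2) * n⁻¹ := by
    calc _ = n * (y * (g * l * c * (g * l)⁻¹)) * y⁻¹ * n⁻¹ := by group
      _ = _ := by rw [e1, mem_C1f.1 hy]; group
  refine e.not_pure_ββ hn ?_
  rw [← e2]
  rcases h.kk hC hle3 with ⟨-, k⟩ | ⟨-, k⟩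
  · exact Or.inr (e.T2Bf (k (conj_mem_cj hc)))
  · exact Or.inl (e.TAf (k (conj_mem_cj hc)))

theorem ne_ββ {a : G} (ha : e.Pure a) (a2 : a * a = 1) (g : G) : g * a * g⁻¹ ≠ e.β * e.β2 := by
  rcases ha with ha | ha
  · exact h.ne_ββ0 ha a2 g
  · have := h.flip.ne_ββ0 (e := e.flip) ha a2 g
    rw [e.flip_β2] at this
    rw [e.abf_comm e.βA e.β2B]
    exact this

omit h in
theorem conj_left {l c v : G} (hl : l ∈ e.A) (hv : v ∈ e.B) : l * c * l⁻¹ * v = l * (c * v) * l⁻¹ := by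
  rw [mul_assoc, e.abf_comm (inv_mem hl) hv]; group

omit h in
theorem conj_both {l c l' c' : G} (hl : l ∈ e.A) (hc : c ∈ e.A) (hl' : l' ∈ e.B) (hc' : c' ∈ e.B) :
    l * c * l⁻¹ * (l' * c' * l'⁻¹) = l * l' * (c * c') * (l * l')⁻¹ := by
  rw [conj_left hl (mul_mem (mul_mem hl' hc') (inv_mem hl'))]
  calc _ = l * (c * l') * c' * l'⁻¹ * l⁻¹ := by group
    _ = _ := by rw [e.abf_comm hc hl']; group

theorem ne_mix0 {a u v : G} (ha : e.Pure a) (a2 : a * a = 1) (hu : Cj e.A e.z u) (hv : v ∈ e.B) (v2 : v * v = 1)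
    (v1 : v ≠ 1) (g : G) : g * a * g⁻¹ ≠ u * v := by
  obtain ⟨l, hl, rfl⟩ := hu
  intro k
  refine h.not_conj1 ha a2 hv v2 v1 (l⁻¹ * g) ?_
  rw [conj_left hl hv] at k
  calc _ = l⁻¹ * (g * a * g⁻¹) * l := by group
    _ = _ := by rw [k]; group

theorem pure_ne_mix {a u v : G} (ha : e.Pure a) (a2 : a * a = 1) (hu : u ∈ e.A) (u2 : u * u = 1) (u1 : u ≠ 1)
    (hv : v ∈ e.B) (v2 : v * v = 1) (v1 : v ≠ 1) (g : G) : g * a * g⁻¹ ≠ u * v := by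
  rcases e.lw.cls u hu u2 u1 with k | ⟨l, hl, rfl⟩
  · exact h.ne_mix0 ha a2 k hv v2 v1 g
  rcases e.lwB.cls v hv v2 v1 with k | ⟨l', hl', rfl⟩
  · rw [e.abf_comm hu hv]
    exact h.flip.ne_mix0 (e := e.flip) (e.flip_Pure.2 ha) a2 k (e.flip_B ▸ hu) u2 u1 g
  intro k
  refine h.ne_ββ ha a2 ((l * l')⁻¹ * g) ?_
  rw [conj_both hl e.βA hl' e.β2B] at k
  calc _ = (l * l')⁻¹ * (g * a * g⁻¹) * (l * l') := by group
    _ = _ := by rw [k]; group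

theorem ext_mix0 {u v : G} (hu : Cj e.A e.z u) (hv : v ∈ e.B) (v2 : v * v = 1) (v1 : v ≠ 1)
    (h2 : u * v * (u * v) = 1) : ∃ g, g * (u * v) * g⁻¹ ∈ e.S0 ∧ Ext ⊤ S (g * (u * v) * g⁻¹) := by
  obtain ⟨l, hl, rfl⟩ := hu
  obtain ⟨g, -, hx⟩ := exists_ext h.sylG (mem_top _) h2
  refine ⟨g, ?_, hx⟩
  have e1 : g * (l * e.z * l⁻¹ * v) * g⁻¹ = g * l * (e.z * v) * (g * l)⁻¹ := by rw [conj_left hl hv]; group
  rw [e1] at hx ⊢
  obtain ⟨a, ha, b, hb, -, -, k⟩ := h.mix_ext hv v2 v1 hx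
  exact e.mem_S0.2 ⟨a, ha, b, hb, k⟩

theorem ext0 {w : G} (hw : w ∈ e.S0) (h2 : w * w = 1) (h1 : w ≠ 1) :
    ∃ g, g * w * g⁻¹ ∈ e.S0 ∧ Ext ⊤ S (g * w * g⁻¹) := by
  have pure : e.Pure w → ∃ g, g * w * g⁻¹ ∈ e.S0 ∧ Ext ⊤ S (g * w * g⁻¹) := fun hp => by
    obtain ⟨g, -, hx⟩ := exists_ext h.sylG (mem_top _) h2
    exact ⟨g, (h.pure_ext hp h2 h1 hx).elim mem_sup_left mem_sup_right, hx⟩
  obtain ⟨u, hu, v, hv, rfl⟩ := e.mem_S0.1 hw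
  have uA := e.TAf hu
  have vB := e.T2Bf hv
  obtain ⟨u2, v2⟩ := e.uniq (mul_mem hu hu) (one_mem _) (mul_mem hv hv) (one_mem _) (by
    rw [mul_one, ← h2]
    calc _ = u * (u * v) * v := by group
      _ = u * (v * u) * v := by rw [e.abf_comm uA vB]
      _ = _ := by group)
  by_cases u1 : u = 1
  · exact pure (Or.inr (by rw [u1, one_mul]; exact vB))
  by_cases v1 : v = 1
  · exact pure (Or.inl (by rw [v1, mul_one]; exact uA))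
  rcases e.lw.cls u uA u2 u1 with k | ⟨l, hl, rfl⟩
  · exact h.ext_mix0 k vB v2 v1 h2
  rcases e.lwB.cls v vB v2 v1 with k | ⟨l', hl', rfl⟩
  · rw [e.abf_comm uA vB] at h2 ⊢
    have := h.flip.ext_mix0 (e := e.flip) k (e.flip_B ▸ uA) u2 u1 h2
    rwa [e.flip_S0] at this
  obtain ⟨Q, hQ, hAB, n, hn, hle⟩ := h.exists_Q
  have e1 : n * (l * l')⁻¹ * (l * e.β * l⁻¹ * (l' * e.β2 * l'⁻¹)) * (n * (l * l')⁻¹)⁻¹ =
      n * (e.β * e.β2) * n⁻¹ := by rw [conj_both hl e.βA hl' e.β2B]; group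
  have m1 : e.β * e.β2 ∈ Q ⊓ (e.A ⊔ e.B) := hAB ▸ mul_mem_sup e.lw.bP e.lwB.bP
  have m2 : n * (e.β * e.β2) * n⁻¹ ∈ S := hle (conj_mem_cj m1.1)
  refine ⟨n * (l * l')⁻¹, ?_⟩
  rw [e1]
  refine ⟨h.infAB ▸ ⟨m2, conj_mem_of_norm (e.Ns_norm_AB hn) m1.2⟩, m2, ?_⟩
  have s := hQ.cj n
  rw [cj_C1f] at s
  rw [top_inf_eq, s.eq_of_le h.syl.pg.to_inf_left (le_inf hle s.le) inf_le_right]
  exact s

theorem le_C1z : S ⊓ e.N0 ≤ C1 e.z := fun s hs => by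
  have hn : s ∈ 𝐍[e.T] := h.infA ▸ norm_inf (norm_of_le inf_le_left) (inf_le_right.trans inf_le_left) hs
  have hc : s ∈ 𝐍[𝐂[e.T]] := norm_cent (X := zpowers s) (zpowers_le.2 hn) (mem_zpowers s)
  rcases e.lw.eq_z (conj_mem_of_norm hn e.lw.zT) (conj_mem_of_norm hc e.lw.zc) with k | k
  · exact absurd k (conj_nef e.lw.z1 s)
  · exact mem_C1f.2 (mul_inv_eq_iff_eq_mul.1 k)

theorem z_z2 (hX : S ⊓ e.X ≤ e.N0) {g : G} (hg : g ∈ e.X) : g * e.z * g⁻¹ ≠ e.z2 := by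
  intro k
  have := e.nX
  have hY : Syl 2 (S ⊓ e.X) e.X := h.sylG.inf le_top (norm_normal _ _)
  have c1 : S ⊓ e.X ≤ C1 e.z := (le_inf inf_le_left hX).trans h.le_C1z
  have c2 : S ⊓ e.X ≤ C1 e.z2 := (le_inf inf_le_left (hX.trans e.flip_N0.ge)).trans h.flip.le_C1z
  have zz2 : e.z ≠ e.z2 := fun q => e.lw.z1 (e.eq_one (e.TAf e.lw.zT) (q ▸ e.T2Bf e.lwB.zT)
    ⟨1, by rw [pow_one, sq, e.lw.zz]⟩)
  obtain ⟨n, hn, k1⟩ := StdB.conj_in_norm (hY.mono (le_inf inf_le_right c2) inf_le_left) hg k c1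
  have s0 : e.S0 ≤ S ⊓ e.X := le_inf h.le0 (sup_le (e.TAf.trans e.AX) (e.T2Bf.trans e.BX))
  have m1 : n * e.z2 * n⁻¹ ∈ S ⊓ e.X := conj_mem_of_norm hn.2 (s0 (mem_sup_right e.lwB.zT))
  have m2 : n * e.z2 * n⁻¹ ∈ 𝐂[S ⊓ e.X] :=
    conj_mem_of_norm (norm_cent (X := zpowers n) (zpowers_le.2 hn.2) (mem_zpowers n))
      (mem_cent.2 fun a ha => mem_C1f.1 (c2 ha))
  have k2 : n * e.z2 * n⁻¹ = e.z := by
    rcases h.cen0 _ m1.1 (cent_anti s0 m2) with q | q | q | q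
    · exact absurd q (conj_nef e.lwB.z1 n)
    · exact q
    · exact absurd (by simpa using k1.trans q.symm) zz2
    · exact absurd q (h.not_conj1 (Or.inr (e.T2Bf e.lwB.zT)) e.lwB.zz (e.T2Bf e.lwB.zT) e.lwB.zz e.lwB.z1 n)
  have odd : ∀ j : ℕ, n ^ (2 * j + 1) * e.z * (n ^ (2 * j + 1))⁻¹ = e.z2 := by
    intro j
    induction j with
    | zero => simpa using k1
    | succ j ih =>
      calc _ = n * (n * (n ^ (2 * j + 1) * e.z * (n ^ (2 * j + 1))⁻¹) * n⁻¹) * n⁻¹ := by group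
        _ = _ := by rw [ih, k2, k1]
  obtain ⟨a, m, ⟨j, rfl⟩, hm⟩ := Nat.exists_eq_two_pow_mul_odd (orderOf_pos n).ne'
  have p2 : IsPGroup 2 (zpowers (n ^ (2 * j + 1))) := pg_iff.2 fun x hx => by
    obtain ⟨i, rfl⟩ := mem_zpowers_iff.1 hx
    refine ⟨a, ?_⟩
    have q : (n ^ (2 * j + 1)) ^ 2 ^ a = 1 := by rw [← pow_mul, mul_comm, ← hm, pow_orderOf_eq_one]
    rw [← zpow_natCast, ← zpow_mul, mul_comm i, zpow_mul, zpow_natCast, q, one_zpow]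
  have m3 := hY.le_of_norm' p2 (zpowers_le.2 (pow_mem hn.1 _)) (zpowers_le.2 (pow_mem hn.2 _)) (mem_zpowers _)
  refine zz2 ?_
  rw [← odd j, mem_C1f.1 (c1 m3)]
  group

theorem sylPP (hX : S ⊓ e.X ≤ e.S0) : Syl 2 (e.P ⊔ e.P2) (e.X ⊓ C1 (e.β * e.β2)) := by
  have := e.nX
  obtain ⟨Q, hQ, hAB, n, hn, hle⟩ := h.exists_Q
  have s := hQ.inf (M := e.X ⊓ C1 (e.β * e.β2)) inf_le_right (norm_inf (norm_normal _ _) (norm_of_le hQ.le))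
  have : Q ⊓ (e.X ⊓ C1 (e.β * e.β2)) = e.P ⊔ e.P2 := by
    refine le_antisymm (fun x hx => hAB.le ⟨hx.1, ?_⟩) (le_inf (hAB.ge.trans inf_le_left)
      (le_inf (e.PP_S0.trans (sup_le (e.TAf.trans e.AX) (e.T2Bf.trans e.BX))) e.PP_le))
    have m := hX ⟨hle (conj_mem_cj hx.1), e.nX.conj_mem _ hx.2.1 n⟩
    have m2 := conj_mem_of_norm' (e.Ns_norm_AB hn) (sup_le_sup e.TAf e.T2Bf m)
    have e1 : n⁻¹ * (n * x * n⁻¹) * n = x := by group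
    rw [e1] at m2
    exact m2
  exact this ▸ s

end En.Sy

end Cfsg.Agent.Wy
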