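import Mathlib
import Cfsg.Agent.Wy.F2
import Cfsg.Agent.Wj.End

/-! The product `T × T2` is not a Sylow 2-subgroup of the simple group. -/

set_option autoImplicit false

namespace Cfsg.Agent.Wy

open Cfsg.Agent.Loc.Mss Cfsg.Agent.Gold Cfsg.Agent.Wr Cfsg.Agent.Wz Subgroup

universe u

variable {G : Type u} [Group G] [Finite G]

namespace E9a

omit [Finite G] in
theorem csq {g u : G} (h : u * u = 1) : g * u * g⁻¹ * (g * u * g⁻¹) = 1 := by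
  calc _ = g * (u * u) * g⁻¹ := by group
    _ = 1 := by rw [h]; group

omit [Finite G] in
theorem cne {g u : G} (h : u ≠ 1) : g * u * g⁻¹ ≠ 1 := by simpa using h

omit [Finite G] in
theorem genT {A T P : Subgroup G} {z β : G} (h : Lw A T P z β) : T ≤ closure {a | a ∈ T ∧ a * a = 1} :=
  h.genT.trans (closure_mono fun _ hx => ⟨hx.1, hx.2.1⟩)

omit [Finite G] in
theorem genP {A T P : Subgroup G} {z β : G} (h : Lw A T P z β) : P ≤ closure {a | a ∈ P ∧ a * a = 1} :=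
  h.genP.trans (closure_mono fun _ hx => ⟨hx.1, hx.2.1⟩)

theorem comm (e : En G) {a b : G} (ha : a ∈ e.A) (hb : b ∈ e.B) : a * b = b * a := mem_cent.1 (e.B_cent hb) a ha

theorem S0X (e : En G) : e.S0 ≤ e.X := sup_le (e.lw.syl.le.trans e.AX) (e.lwB.syl.le.trans e.BX)

variable {e : En G} {S : Subgroup G} (h : e.Sy S) (hX : S ⊓ e.X ≤ e.S0)
include hX

theorem flipX : S ⊓ e.flip.X ≤ e.flip.S0 := e.flip_S0 ▸ hX

theorem leN : S ⊓ e.X ≤ e.N0 := hX.trans ((sup_le_sup e.lw.syl.le e.lwB.syl.le).trans e.AB_le)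

include h

theorem syl : Syl 2 e.S0 e.X := by
  have := e.nX
  have k := h.sylG.inf (M := e.X) le_top (norm_normal _ _)
  rwa [le_antisymm hX (le_inf h.le0 (S0X e))] at k

theorem ext1 {a g : G} (ha : a ∈ e.A) (a2 : a * a = 1) (a1 : a ≠ 1) (hg : g ∈ e.X)
    (hx : Ext e.X e.S0 (g * a * g⁻¹)) : g * a * g⁻¹ ∈ e.T := by
  have key : ∀ (C : Subgroup G) (u : G), C = e.P ∨ C = e.T → u ∈ ⁅C, C⁆ → u ∈ e.A → C ≤ C1 u → Cj e.A u a →
      g * a * g⁻¹ ∈ e.T := by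
    rintro C u hC hu uA hc ⟨l, hl, rfl⟩
    have CT : C ≤ e.T := by
      rcases hC with rfl | rfl
      exacts [e.lw.PT, le_rfl]
    rw [show g * (l * u * l⁻¹) * g⁻¹ = g * l * u * (g * l)⁻¹ by group] at hx ⊢
    obtain ⟨m, hm, m1, m2⟩ := hx.conj (D := C ⊔ e.T2) (mul_mem hg (e.AX hl))
      (e.pg_S0.to_le (sup_le_sup_right CT _)) (le_inf ((sup_le_sup_right CT _).trans (S0X e))
        (sup_le hc fun b hb => mem_centralizer_singleton_iff.2 (comm e uA (e.lwB.syl.le hb)).symm))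
    rcases h.kk hC (m2.trans h.le0) with k | k
    · exact absurd (by rw [← k.1]; group) (h.z_z2 (leN hX) (inv_mem hm))
    · exact m1 ▸ k.2 (conj_mem_cj hu)
  rcases e.lw.cls a ha a2 a1 with k | k
  · exact key e.T e.z (Or.inr rfl) e.lw.zD (e.lw.syl.le e.lw.zT)
      (fun x hx => mem_centralizer_singleton_iff.2 (mem_cent.1 e.lw.zc x hx)) k
  · exact key e.P e.β (Or.inl rfl) e.lw.bD (e.lw.syl.le (e.lw.PT e.lw.bP)) e.lw.PC k

theorem iA {g u : G} (hg : g ∈ e.X) (hu : u ∈ e.T) (u2 : u * u = 1) (hm : g * u * g⁻¹ ∈ e.S0) :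
    g * u * g⁻¹ ∈ e.T := by
  obtain ⟨a, ha, b, hb, e1⟩ := e.mem_S0.1 hm
  have c : Commute a b := comm e (e.lw.syl.le ha) (e.lwB.syl.le hb)
  have k := csq (g := g) u2
  rw [e1, mul_assoc, ← mul_assoc b, ← c.eq, mul_assoc, ← mul_assoc, ← mul_one 1] at k
  obtain ⟨a2, b2⟩ := e.uniq (mul_mem ha ha) (one_mem _) (mul_mem hb hb) (one_mem _) k
  by_cases b1 : b = 1
  · rwa [e1, b1, mul_one]
  by_cases a1 : a = 1
  · rw [a1, one_mul] at e1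
    have u1 : u ≠ 1 := fun k => b1 (by rw [← e1, k]; group)
    obtain ⟨x, hx, x1⟩ := exists_ext (syl h hX) (e.AX (e.lw.syl.le hu)) u2
    have k1 := ext1 h hX (e.lw.syl.le hu) u2 u1 hx x1
    have e2 : x * u * x⁻¹ = x * g⁻¹ * b * (x * g⁻¹)⁻¹ := by rw [← e1]; group
    have k2 := ext1 h.flip (flipX hX) (g := x * g⁻¹) (e.lwB.syl.le hb) b2 b1 (mul_mem hx (inv_mem hg))
      (by rw [e.flip_S0, ← e2]; exact x1)
    rw [← e2] at k2
    exact absurd (e.eq_one (e.lw.syl.le k1) (e.lwB.syl.le k2) ⟨1, by rw [pow_one, sq, csq u2]⟩) (cne u1)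
  · exact absurd e1 (h.pure_ne_mix (Or.inl (e.lw.syl.le hu)) u2 (e.lw.syl.le ha) a2 a1 (e.lwB.syl.le hb) b2 b1 g)

theorem iB {g u : G} (hg : g ∈ e.X) (hu : u ∈ e.T2) (u2 : u * u = 1) (hm : g * u * g⁻¹ ∈ e.S0) :
    g * u * g⁻¹ ∈ e.T2 := iA h.flip (flipX hX) hg hu u2 (e.flip_S0 ▸ hm)

theorem pr : EndAux.Pr e.X e.T e.T2 :=
  ⟨fun _ ha _ hb => comm e (e.lw.syl.le ha) (e.lwB.syl.le hb),
    fun a ha hb => e.eq_one (e.lw.syl.le ha) (e.lwB.syl.le hb) (pg_iff.1 e.lw.syl.pg a ha),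
    ⟨(syl h hX).le, (syl h hX).pg, fun _ hQ h1 h2 => (syl h hX).eq_of_le hQ h2 h1⟩, genT e.lw, genT e.lwB,
    fun _ hg _ hu u2 => iA h hX hg hu u2, fun _ hg _ hu u2 => iB h hX hg hu u2⟩

theorem nz (hb : e.β ≠ e.z) {g : G} (hg : g ∈ e.X) : g * e.β * g⁻¹ ≠ e.z := fun e1 => by
  have := e.nX
  have zA := e.lw.syl.le e.lw.zT
  have zc : e.S0 ≤ C1 e.z := sup_le (fun x hx => mem_centralizer_singleton_iff.2 (mem_cent.1 e.lw.zc x hx))
    fun b hb => mem_centralizer_singleton_iff.2 (comm e zA (e.lwB.syl.le hb)).symm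
  have hx : Ext e.X e.S0 (g * e.β * g⁻¹) := by
    rw [e1]
    refine ⟨mem_sup_left e.lw.zT, ?_⟩
    rw [inf_eq_left.2 zc]
    exact (syl h hX).mono (le_inf (S0X e) zc) inf_le_left
  have bA := e.lw.syl.le (e.lw.PT e.lw.bP)
  obtain ⟨m, hm, m1, m2⟩ := hx.conj (D := e.P2) hg (e.lwB.syl.pg.to_le e.lwB.PT)
    (le_inf (e.lwB.PT.trans (e.lwB.syl.le.trans e.BX)) fun b hb =>
      mem_centralizer_singleton_iff.2 (comm e bA (e.lwB.syl.le (e.lwB.PT hb))).symm)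
  rw [e1] at m1
  have m3 : cj(m, e.P2) ≤ e.T2 := (pr h hX).symm.cj_le (genP e.lwB) e.lwB.PT hm (sup_comm e.T e.T2 ▸ m2)
  have b2 : m * e.β2 * m⁻¹ ∈ e.B := e.lwB.syl.le (m3 (conj_mem_cj e.lwB.bP))
  have m4 : cj(m⁻¹, e.T ⊔ cj(m, e.P2)) ≤ e.X ⊓ C1 (e.β * e.β2) := by
    refine le_inf (cj_le_of_mem ((sup_le_sup_left m3 _).trans (S0X e)) (inv_mem hm)) ?_
    have k : e.T ⊔ cj(m, e.P2) ≤ C1 (e.z * (m * e.β2 * m⁻¹)) := by
      refine sup_le (fun x hx => ?_) fun x hx => ?_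
      · exact mem_centralizer_singleton_iff.2 (Commute.mul_right (mem_cent.1 e.lw.zc x hx)
          (comm e (e.lw.syl.le hx) b2))
      · refine mem_centralizer_singleton_iff.2 (Commute.mul_right (comm e zA (e.lwB.syl.le (m3 hx))).symm ?_)
        have := mem_centralizer_singleton_iff.1 (e.lwB.PC (mem_cj.1 hx))
        change x * _ = _ * x
        calc x * (m * e.β2 * m⁻¹) = m * (m⁻¹ * x * m * e.β2) * m⁻¹ := by group
          _ = _ := by rw [this]; group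
    refine cj_le_iff.2 fun x hx => mem_centralizer_singleton_iff.2 ?_
    have k1 := mem_centralizer_singleton_iff.1 (k hx)
    rw [← m1] at k1
    calc _ = m⁻¹ * (x * (m * e.β * m⁻¹ * (m * e.β2 * m⁻¹))) * m := by group
      _ = _ := by rw [k1]; group
  obtain ⟨c, -, hc⟩ := (h.sylPP hX).conj_le (pg_cj (e.pg_S0.to_le (sup_le_sup_left m3 _)) _) m4
  have k := card_le_of_le hc
  rw [card_cj, card_cj, e.card_sup le_rfl m3, card_cj, e.card_sup e.lw.PT e.lwB.PT] at k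
  exact (e.lw.card_lt hb).not_ge (Nat.le_of_mul_le_mul_right k Nat.card_pos)

theorem he : Wj.HE' e.X e.T2 e.T := fun u hu u2 => by
  have uA := e.lw.syl.le hu
  have nr : ∀ l ∈ e.A, ∀ a ∈ e.T2, l * a * l⁻¹ ∈ e.T2 := fun l hl a ha => by
    rwa [comm e hl (e.lwB.syl.le ha), mul_inv_cancel_right]
  have c1 : ∀ l ∈ e.A, l * u * l⁻¹ ∈ e.T → l * u * l⁻¹ ∈ 𝐂[e.T] → ∃ g ∈ e.X, (∀ a ∈ e.T2, g * a * g⁻¹ ∈ e.T2) ∧
      ∃ E ≤ e.T, E ≤ closure {a | a ∈ E ∧ a * a = 1} ∧ g * u * g⁻¹ ∈ E ∧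
        (∀ x ∈ E, x * (g * u * g⁻¹) = g * u * g⁻¹ * x) ∧ ∀ k ∈ e.X, Inv.Fz.cj k E ≤ e.T → ∀ a ∈ e.T,
          (∀ x ∈ Inv.Fz.cj k E, a * x = x * a) → a ∈ Inv.Fz.cj k E := fun l hl h1 h2 =>
    ⟨l, e.AX hl, nr l hl, e.T, le_rfl, genT e.lw, h1, mem_cent.1 h2, fun k _ hk a ha _ => by
      rwa [Inv.Fz.cj_eq_of_le hk]⟩
  by_cases u1 : u = 1
  · exact c1 1 (one_mem _) (by simp [u1]) (by simp [u1])
  have c2 : Cj e.A e.z u → ∃ l ∈ e.A, l * u * l⁻¹ ∈ e.T ∧ l * u * l⁻¹ ∈ 𝐂[e.T] := by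
    rintro ⟨l, hl, k⟩
    have k' : l⁻¹ * u * l⁻¹⁻¹ = e.z := by rw [← k]; group
    exact ⟨l⁻¹, inv_mem hl, k' ▸ e.lw.zT, k' ▸ e.lw.zc⟩
  rcases e.lw.cls u uA u2 u1 with k | k
  · obtain ⟨l, hl, k1, k2⟩ := c2 k
    exact c1 l hl k1 k2
  by_cases hb : e.β = e.z
  · obtain ⟨l, hl, k1, k2⟩ := c2 (hb ▸ k)
    exact c1 l hl k1 k2
  obtain ⟨l, hl, k⟩ := k
  have k' : l⁻¹ * u * l⁻¹⁻¹ = e.β := by rw [← k]; group
  refine ⟨l⁻¹, e.AX (inv_mem hl), nr _ (inv_mem hl), e.P, e.lw.PT, genP e.lw, k' ▸ e.lw.bP,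
    fun x hx => k' ▸ mem_centralizer_singleton_iff.1 (e.lw.PC hx), fun k hk h1 a ha h2 => ?_⟩
  change cj(k, e.P) ≤ e.T at h1
  change a ∈ cj(k, e.P)
  have b1 : k * e.β * k⁻¹ ∈ cj(k, e.P) := conj_mem_cj e.lw.bP
  rcases e.lw.cls _ (e.lw.syl.le (h1 b1)) (csq e.lw.bb) (cne e.lw.b1) with ⟨n, hn, n1⟩ | ⟨n, hn, n1⟩
  · refine absurd ?_ (nz h hX hb (mul_mem (inv_mem (e.AX hn)) hk))
    calc _ = n⁻¹ * (k * e.β * k⁻¹) * n := by group
      _ = _ := by rw [← n1]; group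
  · have s1 := e.lw.sylP.cj n
    have cC : ∀ (g : G) (Y : Subgroup G), Y ≤ C1 e.β → cj(g, Y) ≤ C1 (g * e.β * g⁻¹) := fun g Y hY =>
      cj_le_iff.2 fun x hx => mem_centralizer_singleton_iff.2 (by
        calc _ = g * (x * e.β) * g⁻¹ := by group
          _ = _ := by rw [mem_centralizer_singleton_iff.1 (hY hx)]; group)
    have hle : e.T ⊓ C1 (k * e.β * k⁻¹) ≤ cj(n, e.A ⊓ C1 e.β) := fun x hx => mem_cj.2 (mem_inf.2
      ⟨mul_mem (mul_mem (inv_mem hn) (e.lw.syl.le hx.1)) hn, mem_centralizer_singleton_iff.2 (by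
        have := mem_centralizer_singleton_iff.1 hx.2
        rw [← n1] at this
        calc _ = n⁻¹ * (x * (n * e.β * n⁻¹)) * n := by group
          _ = _ := by rw [this]; group)⟩)
    have h3 : cj(k, e.P) ≤ e.T ⊓ C1 (k * e.β * k⁻¹) := le_inf h1 (cC k _ e.lw.PC)
    have s2 := s1.of_card_le (pg_cj e.lw.sylP.pg k) (h3.trans hle) (by rw [card_cj, card_cj])
    exact s2.ge_of_le e.lw.syl.pg.to_inf_left h3 hle ⟨ha, mem_centralizer_singleton_iff.2 (h2 _ b1)⟩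

end E9a

open E9a

theorem En.Sy.not_le {e : En G} {S : Subgroup G} (h : e.Sy S) : ¬ S ⊓ e.X ≤ e.S0 := fun hX => by
  have := e.sX
  have k := he h.flip (flipX hX)
  rw [e.flip_T2] at k
  exact Wj.pr_false (pr h hX) k (he h hX) (fun k => e.lw.z1 (mem_bot.1 (k ▸ e.lw.zT)))
    fun k => e.lwB.z1 (mem_bot.1 (k ▸ e.lwB.zT))

end Cfsg.Agent.Wy
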