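import Mathlib
import Cfsg.Agent.Wy.E6
import Cfsg.Agent.StdB.Gen

/-! The Sylow 2-subgroup of `X` is `T × T2`. -/

set_option autoImplicit false

namespace Cfsg.Agent.Wy

open Cfsg.Agent.Loc.Mss Cfsg.Agent.Gold Cfsg.Agent.Wr Cfsg.Agent.Wz Subgroup

universe u

variable {G : Type u} [Group G] [Finite G]

theorem _root_.Cfsg.Agent.Wz.Lw.e9_mulY {A T P : Subgroup G} {z β : G} (h : Lw A T P z β) {g g' : G} (hg : g ∈ 𝐍[A])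
    (hg' : g' ∈ 𝐍[A]) : g * g' ∈ A ⊔ 𝐂[A] ↔ (g ∈ A ⊔ 𝐂[A] ↔ g' ∈ A ⊔ 𝐂[A]) := by
  constructor
  · intro H
    exact ⟨fun h1 => (mul_mem_cancel_left h1).1 H, fun h1 => (mul_mem_cancel_right h1).1 H⟩
  · intro H
    rcases h.idx g hg g' hg' with h1 | h1 | h1
    · exact mul_mem h1 (H.1 h1)
    · exact mul_mem (H.2 h1) h1
    · exact h1

namespace En

variable (e : En G)

theorem e9_swap {s : G} : e.t * s * e.t ∈ e.A ⊔ 𝐂[e.A] ↔ s ∈ e.B ⊔ 𝐂[e.B] := by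
  rw [En.B, ← cj_cent, ← cj_sup, mem_cj, e.ti]

theorem e9_swap' {s : G} : e.t * s * e.t ∈ e.B ⊔ 𝐂[e.B] ↔ s ∈ e.A ⊔ 𝐂[e.A] := by
  rw [← e.e9_swap, show e.t * (e.t * s * e.t) * e.t = e.t * e.t * s * (e.t * e.t) by group, e.tt, one_mul,
    mul_one]

theorem e9_perf : e.X ≤ ⁅e.X, e.X⁆ := by
  haveI := e.nX
  haveI := e.sX
  rcases IsSimpleGroup.eq_bot_or_eq_top_of_normal ((⁅e.X, e.X⁆).subgroupOf e.X) inferInstance with h | h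
  · exfalso
    rw [subgroupOf_eq_bot] at h
    have hz : e.z ∈ e.A := e.lw.syl.le e.lw.zT
    have h1 : e.z ∈ ⁅e.X, e.X⁆ := commutator_mono e.AX e.AX (e.lw.perf.symm ▸ hz)
    exact e.lw.z1 (disjoint_def.1 h h1 (e.AX hz))
  · exact subgroupOf_eq_top.1 h

theorem e9_S0X : e.S0 ≤ e.X :=
  sup_le (e.lw.syl.le.trans e.AX) (e.lwB.syl.le.trans e.BX)

theorem e9_S0N : e.S0 ≤ e.N0 :=
  (sup_le (e.lw.syl.le.trans le_sup_left) (e.lwB.syl.le.trans le_sup_right)).trans e.AB_le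

theorem e9_tN {s : G} (hs : s ∈ e.N0) : e.t * s * e.t ∈ e.N0 := by
  have := conj_mem_of_norm (e.Ns_norm (e.mem_Ns.2 (Or.inr e.sw_t))) hs
  rwa [e.ti] at this

end En

namespace En.Sy

variable {e : En G} {S : Subgroup G} (h : e.Sy S)
include h

theorem e9_norm : S ≤ 𝐍[e.S0] := by
  rw [← h.infAB]
  refine norm_inf (norm_of_le le_rfl) fun s hs => ?_
  rcases e.mem_Ns.1 (h.syl.le hs) with H | H
  · exact norm_sup (zpowers_le.2 H.1) (zpowers_le.2 H.2) (mem_zpowers s)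
  · rw [← cj_eq_iff, cj_sup, H.1, H.2, sup_comm]

theorem e9_same {s s' : G} (hs : s ∈ S) (hs' : s' ∈ S) (hn : s ∈ e.N0) (hn' : s' ∈ e.N0)
    (hA : s ∈ e.A ⊔ 𝐂[e.A] ↔ s' ∈ e.A ⊔ 𝐂[e.A]) (hB : s ∈ e.B ⊔ 𝐂[e.B] ↔ s' ∈ e.B ⊔ 𝐂[e.B]) :
    s * s'⁻¹ ∈ e.S0 := by
  refine h.in0 _ (mul_mem hs (inv_mem hs')) ?_ ?_
  · rw [e.lw.e9_mulY hn.1 (inv_mem hn'.1), inv_mem_iff]; exact hA
  · rw [e.lwB.e9_mulY hn.2 (inv_mem hn'.2), inv_mem_iff]; exact hB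

theorem e9_syl : Syl 2 (S ⊓ e.X) e.X := by
  haveI := e.nX
  exact h.sylG.inf le_top (norm_normal _ _)

theorem e9_tY {y : G} (hy : y ∈ S ⊓ e.X) : e.t * y * e.t ∈ S ⊓ e.X := by
  refine ⟨mul_mem (mul_mem h.tS hy.1) h.tS, ?_⟩
  have := e.nX.conj_mem y hy.2 e.t
  rwa [e.ti] at this

/-- An element of `X` which is inner on exactly one factor forces `S ⊓ N0 ≤ X`. -/
theorem e9_all {y : G} (hy : y ∈ S ⊓ e.X) (hn : y ∈ e.N0)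
    (hne : ¬ (y ∈ e.A ⊔ 𝐂[e.A] ↔ y ∈ e.B ⊔ 𝐂[e.B])) {s : G} (hs : s ∈ S) (hsn : s ∈ e.N0) : s ∈ e.X := by
  have key : ∀ x ∈ S ⊓ e.X, x ∈ e.N0 → (s ∈ e.A ⊔ 𝐂[e.A] ↔ x ∈ e.A ⊔ 𝐂[e.A]) →
      (s ∈ e.B ⊔ 𝐂[e.B] ↔ x ∈ e.B ⊔ 𝐂[e.B]) → s ∈ e.X := fun x hx hxn h1 h2 => by
    have := e.e9_S0X (h.e9_same hs hx.1 hsn hxn h1 h2)
    exact (mul_mem_cancel_right (inv_mem (mem_inf.1 hx).2)).1 this
  have hy' := h.e9_tY hy
  have hn' := e.e9_tN hn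
  have k1 := key 1 (one_mem _) (one_mem _)
  have k2 := key y hy hn
  have k3 := key _ hy' hn'
  have k4 := key _ (mul_mem hy hy') (mul_mem hn hn')
  rw [e.lw.e9_mulY hn.1 hn'.1, e.lwB.e9_mulY hn.2 hn'.2] at k4
  rw [e.e9_swap, e.e9_swap'] at k3 k4
  simp only [one_mem, iff_true] at k1
  by_cases a : s ∈ e.A ⊔ 𝐂[e.A] <;> by_cases b : s ∈ e.B ⊔ 𝐂[e.B] <;> by_cases c : y ∈ e.A ⊔ 𝐂[e.A] <;>
    by_cases d : y ∈ e.B ⊔ 𝐂[e.B] <;> simp_all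

theorem e9_cyc {σ c : G} (hX : σ ∈ e.X) (h2 : σ * σ = 1) (hf : ∀ g, g * σ * g⁻¹ ∉ e.S0) (hc : c ∈ S ⊓ e.X)
    (hle : S ⊓ e.X ≤ e.S0 ⊔ zpowers c) : False := by
  obtain ⟨g, -, hg, -⟩ := StdB.transfer_cyc (E := ⊥) h.e9_syl (inf_le_left.trans h.e9_norm) hc hle
    (e.e9_perf hX) h2 IsPGroup.of_bot bot_le
  exact hf g hg

theorem e9_N0 {σ : G} (hX : σ ∈ e.X) (h2 : σ * σ = 1) (hf : ∀ g, g * σ * g⁻¹ ∉ e.S0) : S ⊓ e.X ≤ e.N0 := by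
  by_contra hne
  obtain ⟨s, hs, hsn⟩ := SetLike.not_le_iff_exists.1 hne
  have hsw : e.Sw s := e.sw_of (h.syl.le hs.1) hsn
  have hrn : s * e.t ∈ e.N0 := e.mul_mem_N0 hsw e.sw_t
  have hrS : s * e.t ∈ S := mul_mem hs.1 h.tS
  have hrX : s * e.t ∉ e.X := fun H => h.tX ((mul_mem_cancel_left (mem_inf.1 hs).2).1 H)
  have key : ∀ y ∈ S ⊓ e.X, y ∈ e.N0 → y ∈ e.S0 ⊔ zpowers s := by
    intro y hy hyn
    by_cases hne : y ∈ e.A ⊔ 𝐂[e.A] ↔ y ∈ e.B ⊔ 𝐂[e.B]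
    swap
    · exact (hrX (h.e9_all hy hyn hne hrS hrn)).elim
    by_cases a : y ∈ e.A ⊔ 𝐂[e.A]
    · exact mem_sup_left (h.in0 y hy.1 a (hne.1 a))
    have b : y ∉ e.B ⊔ 𝐂[e.B] := fun H => a (hne.2 H)
    have hr : ¬ (s * e.t ∈ e.A ⊔ 𝐂[e.A] ↔ s * e.t ∈ e.B ⊔ 𝐂[e.B]) := by
      intro H
      by_cases c : s * e.t ∈ e.A ⊔ 𝐂[e.A]
      · exact hrX (e.e9_S0X (h.in0 _ hrS c (H.1 c)))
      · have := e.e9_S0X (h.e9_same hrS hy.1 hrn hyn (iff_of_false c a) (iff_of_false (fun k => c (H.2 k)) b))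
        exact hrX ((mul_mem_cancel_right (inv_mem (mem_inf.1 hy).2)).1 this)
    have hss : s * s = s * e.t * (e.t * (s * e.t) * e.t) := by
      rw [show s * e.t * (e.t * (s * e.t) * e.t) = s * (e.t * e.t) * s * (e.t * e.t) by group, e.tt]; group
    have hn' := e.e9_tN hrn
    have h1 := h.e9_same hy.1 (mul_mem hs.1 hs.1) hyn (hss ▸ mul_mem hrn hn')
      (iff_of_false a (by rw [hss, e.lw.e9_mulY hrn.1 hn'.1, e.e9_swap]; exact hr))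
      (iff_of_false b (by rw [hss, e.lwB.e9_mulY hrn.2 hn'.2, e.e9_swap']; exact fun H => hr H.symm))
    have h3 : s * s ∈ e.S0 ⊔ zpowers s := mem_sup_right (mul_mem (mem_zpowers s) (mem_zpowers s))
    exact (mul_mem_cancel_right (inv_mem h3)).1 (mem_sup_left h1)
  refine h.e9_cyc hX h2 hf hs fun y hy => ?_
  by_cases hyn : y ∈ e.N0
  · exact key y hy hyn
  · have := key _ (mul_mem hy hs) (e.mul_mem_N0 (e.sw_of (h.syl.le hy.1) hyn) hsw)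
    exact (mul_mem_cancel_right (mem_sup_right (mem_zpowers s))).1 this

theorem e9_ex {σ : G} (hX : σ ∈ e.X) (h2 : σ * σ = 1) (hf : ∀ g, g * σ * g⁻¹ ∉ e.S0)
    (hne : ¬ S ⊓ e.X ≤ e.S0) :
    ∃ y ∈ S ⊓ e.X, ¬ (y ∈ e.A ⊔ 𝐂[e.A] ↔ y ∈ e.B ⊔ 𝐂[e.B]) := by
  by_contra H
  push Not at H
  have hN := h.e9_N0 hX h2 hf
  obtain ⟨c, hc, hc0⟩ := SetLike.not_le_iff_exists.1 hne
  have ca : c ∉ e.A ⊔ 𝐂[e.A] := fun k => hc0 (h.in0 c hc.1 k ((H c hc).1 k))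
  refine h.e9_cyc hX h2 hf hc fun y hy => ?_
  by_cases a : y ∈ e.A ⊔ 𝐂[e.A]
  · exact mem_sup_left (h.in0 y hy.1 a ((H y hy).1 a))
  · have := h.e9_same hy.1 hc.1 (hN hy) (hN hc) (iff_of_false a ca)
      (iff_of_false (fun k => a ((H y hy).2 k)) fun k => ca ((H c hc).2 k))
    exact (mul_mem_cancel_right (inv_mem (mem_sup_right (mem_zpowers c)))).1 (mem_sup_left this)

/-- The second transfer: `u r` is fused into `S0`. -/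
theorem e9_end (hN : S ⊓ e.X ≤ e.N0) {u r : G} (hu : u ∈ ⁅e.T, e.T⁆) (hr : r ∈ S ⊓ e.X) (hA : r ∈ 𝐂[e.A])
    (hB : r ∉ e.B ⊔ 𝐂[e.B]) (h2 : r * r = 1) : ∃ m, m * (u * r) * m⁻¹ ∈ e.S0 := by
  have hTA := e.lw.syl.le
  obtain ⟨m, hm, hcB, hcS, hT⟩ := StdB.transfer_cyc (A := e.B ⊔ 𝐂[e.B]) (E := e.T) h.e9_syl
    (norm_sup (hN.trans inf_le_right) (norm_cent (hN.trans inf_le_right))) hr
    (fun y hy => by
      by_cases b : y ∈ e.B ⊔ 𝐂[e.B]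
      · exact mem_sup_left b
      · have := (e.lwB.e9_mulY (hN hy).2 (hN hr).2).2 (iff_of_false b hB)
        exact (mul_mem_cancel_right (mem_sup_right (mem_zpowers r))).1 (mem_sup_left this))
    (e.e9_perf hr.2) h2 e.lw.syl.pg
    (fun a ha => ⟨e.AX (hTA ha), mem_centralizer_singleton_iff.2 (mem_cent.1 hA a (hTA ha))⟩)
  have hY : cj(m, e.T) ≤ S ⊓ e.N0 := le_inf (hT.trans inf_le_left) (hT.trans hN)
  have hw : m * e.z * m⁻¹ ∈ cj(m, e.T) := conj_mem_cj e.lw.zT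
  have hw' : m * e.z * m⁻¹ ∈ 𝐂[cj(m, e.T)] := by rw [← cj_cent]; exact conj_mem_cj e.lw.zc
  have hZ : ∀ c ∈ cj(m, e.T), c ∈ 𝐂[cj(m, e.T)] → c = 1 ∨ c = m * e.z * m⁻¹ := fun c hc hc' =>
    (e.lw.cj m).eq_z hc hc'
  have hz2 : e.z2 ∈ e.T2 := e.lwB.zT
  have hwA : m * e.z * m⁻¹ ∉ 𝐂[e.A] := by
    intro H
    have hwB : m * e.z * m⁻¹ ∉ 𝐂[e.B] := fun H' => by
      have := h.cen _ (hY hw).1 H H'
      exact e.lw.z1 (by simpa using this)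
    have h1 := (h.flip.kk1 (Y := cj(m, e.T)) (by rw [e.flip_N0]; exact hY)
      (by rw [card_cj]; exact e.card_T2.symm) hw hw' hZ hwB).1
    have h3 := h.cen _ (mul_mem (hY hw).1 (h.le0 (mem_sup_right hz2)))
      (mul_mem H (e.B_cent (e.lwB.syl.le hz2))) h1
    refine h.z_z2 hN hm ?_
    rw [eq_inv_of_mul_eq_one_left h3, inv_eq_of_mul_eq_one_right e.lwB.zz]
  have hcc : m * r * m⁻¹ ∈ 𝐂[cj(m, e.T)] := by
    rw [← cj_cent]; exact conj_mem_cj (cent_anti hTA hA)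
  have hcA : m * r * m⁻¹ ∈ e.A ⊔ 𝐂[e.A] := by
    rcases (h.kk1 hY (card_cj _ _) hw hw' hZ hwA).2 _ ⟨hcS.1, hN hcS⟩ hcc with H | H
    · exact mem_sup_right H
    · exact (mul_mem_cancel_right (mem_sup_left (hTA e.lw.zT))).1 (mem_sup_right H)
  refine ⟨m, ?_⟩
  have h1 : m * u * m⁻¹ ∈ e.S0 := by
    refine h.com (commutator_mono hY hY ?_)
    rw [← cj_comm]; exact conj_mem_cj hu
  have := mul_mem h1 (h.in0 _ hcS.1 hcA hcB)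
  rwa [show m * u * m⁻¹ * (m * r * m⁻¹) = m * (u * r) * m⁻¹ by group] at this

end En.Sy

theorem En.Sy.le_S0 {e : En G} {S : Subgroup G} (h : e.Sy S) : S ⊓ e.X ≤ e.S0 := by
  by_contra hne
  obtain ⟨σ, hX, ht, h2, ho⟩ := h.exists_sigma hne
  have hf := h.not_fused ht h2 ho
  have hN := h.e9_N0 hX h2 hf
  obtain ⟨y, hy, hyn⟩ := h.e9_ex hX h2 hf hne
  have hall : ∀ s ∈ S, s ∈ e.N0 → s ∈ e.X := fun s hs hsn => h.e9_all hy (hN hy) hyn hs hsn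
  obtain ⟨c, hc, hcA⟩ : ∃ c ∈ S ⊓ e.X, c ∉ e.A ⊔ 𝐂[e.A] := by
    by_cases a : y ∈ e.A ⊔ 𝐂[e.A]
    · exact ⟨_, h.e9_tY hy, fun k => hyn (iff_of_true a (e.e9_swap.1 k))⟩
    · exact ⟨y, hy, a⟩
  obtain ⟨g, -, hA, hS, -⟩ := StdB.transfer_cyc (A := e.A ⊔ 𝐂[e.A]) (E := ⊥) h.e9_syl
    (norm_sup (hN.trans inf_le_left) (norm_cent (hN.trans inf_le_left))) hc
    (fun y hy => by
      by_cases b : y ∈ e.A ⊔ 𝐂[e.A]
      · exact mem_sup_left b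
      · have := (e.lw.e9_mulY (hN hy).1 (hN hc).1).2 (iff_of_false b hcA)
        exact (mul_mem_cancel_right (mem_sup_right (mem_zpowers c))).1 (mem_sup_left this))
    (e.e9_perf hX) h2 IsPGroup.of_bot bot_le
  set σ' := g * σ * g⁻¹ with hσ'
  have h2' : σ' * σ' = 1 := by
    rw [hσ', show g * σ * g⁻¹ * (g * σ * g⁻¹) = g * (σ * σ) * g⁻¹ by group, h2]; group
  have hnT : σ' ∈ 𝐍[e.T] := by
    rw [← h.infA]
    exact norm_inf (norm_of_le (zpowers_le.2 hS.1)) (zpowers_le.2 (hN hS).1) (mem_zpowers _)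
  obtain ⟨a, ha, hr⟩ := e.lw.inner_T hA ⟨1, by simpa [pow_two] using h2'⟩ hnT
  have haA := e.lw.syl.le ha
  have ha0 : a ∈ e.S0 := mem_sup_left ha
  set r := a⁻¹ * σ' with hrd
  have hσr : σ' = a * r := by rw [hrd]; group
  have hrY : r ∈ S ⊓ e.X := mul_mem (inv_mem ⟨h.le0 ha0, e.e9_S0X ha0⟩) hS
  have hcomm : a * r = r * a := mem_cent.1 hr a haA
  have hsq : a * a * (r * r) = 1 := by
    rw [← h2', hσr, show a * r * (a * r) = a * (r * a) * r by group, ← hcomm]; group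
  have haa : a * a = 1 := by
    refine e.lw.two_eq (mul_mem haA haA) (pg_iff.1 e.lw.syl.pg _ (mul_mem ha ha)) ?_
    rw [eq_inv_of_mul_eq_one_left hsq]
    exact inv_mem (mul_mem hr hr)
  have hrr : r * r = 1 := by rwa [haa, one_mul] at hsq
  have hrB : r ∉ e.B ⊔ 𝐂[e.B] := fun k => by
    have := mul_mem ha0 (h.in0 r hrY.1 (mem_sup_right hr) k)
    exact hf g (hσ' ▸ hσr ▸ this)
  obtain ⟨u, hu, l, hl, hlu⟩ : ∃ u ∈ ⁅e.T, e.T⁆, Cj e.A u a := by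
    by_cases a1 : a = 1
    · exact ⟨1, one_mem _, 1, one_mem _, by simp [a1]⟩
    · rcases e.lw.cls a haA haa a1 with H | H
      · exact ⟨_, e.lw.zD, H⟩
      · exact ⟨_, commutator_mono e.lw.PT e.lw.PT e.lw.bD, H⟩
  obtain ⟨m, hm⟩ := h.e9_end hN hu hrY hr hrB hrr
  refine hf (m * l⁻¹ * g) ?_
  have hlr : l * r = r * l := mem_cent.1 hr l hl
  have : m * l⁻¹ * g * σ * (m * l⁻¹ * g)⁻¹ = m * (u * r) * m⁻¹ := by
    rw [show m * l⁻¹ * g * σ * (m * l⁻¹ * g)⁻¹ = m * (l⁻¹ * (g * σ * g⁻¹) * l) * m⁻¹ by group, ← hσ', hσr,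
      ← hlu, show l⁻¹ * (l * u * l⁻¹ * r) * l = u * (l⁻¹ * (r * l)) by group, ← hlr]
    group
  rwa [this]

end Cfsg.Agent.Wy
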