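import Mathlib
import Cfsg.Agent.Wy.TA

/-!
# An involution of `L` in another conjugate of `C(L)`
-/

set_option autoImplicit false
set_option linter.unusedSectionVars false

namespace Cfsg.Agent.Wy

open Cfsg.Agent.Loc.Mss Cfsg.Agent.Gold Cfsg.Agent.Wr Cfsg.Agent.Wz Subgroup

universe u

namespace TB

section gen

variable {G : Type*} [Group G] [Finite G]

theorem mem_C1 {a g : G} : g ∈ C1 a ↔ g * a = a * g := mem_centralizer_singleton_iff

theorem card_le_of_sub {V : Subgroup G} {s : Finset G} (h : ∀ v ∈ V, v ∈ s) : Nat.card V ≤ s.card := by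
  have : (V : Set G) ⊆ (s : Set G) := fun v hv => h v hv
  have h2 := Set.ncard_le_ncard this (Finset.finite_toSet s)
  rwa [Set.ncard_coe_finset] at h2

theorem exists_not_mem {V : Subgroup G} {s : Finset G} (h : s.card < Nat.card V) : ∃ v ∈ V, v ∉ s := by
  by_contra hc
  push Not at hc
  exact (card_le_of_sub hc).not_gt h

theorem pg_four {R : Subgroup G} (h : Nat.card R = 4) : IsPGroup 2 R :=
  IsPGroup.of_card (n := 2) (by rw [h]; norm_num)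

theorem comm_four {R : Subgroup G} (h : Nat.card R = 4) : R ≤ 𝐂[R] := by
  have : Fact (Nat.Prime 2) := ⟨Nat.prime_two⟩
  have hc : IsMulCommutative R := IsPGroup.isMulCommutative_of_card_eq_prime_sq (p := 2) (by rw [h]; norm_num)
  intro a ha
  refine mem_cent.2 fun b hb => ?_
  exact congrArg Subtype.val (hc.is_comm.comm (⟨b, hb⟩ : R) ⟨a, ha⟩)

theorem inv_of_two {Y : Subgroup G} {y : G} (hy : y ∈ Y) (h2 : Two y) (h1 : y ≠ 1) :
    ∃ w ∈ Y, w * w = 1 ∧ w ≠ 1 := by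
  obtain ⟨n, hn⟩ := h2
  induction n generalizing y with
  | zero => exact absurd (by simpa using hn) h1
  | succ n ih =>
    by_cases h : y * y = 1
    · exact ⟨y, hy, h, h1⟩
    · exact ih (mul_mem hy hy) h (by rw [← pow_two, ← pow_mul, ← pow_succ', hn])

theorem inv_of_even {Y : Subgroup G} {y : G} (hy : y ∈ Y) (h2 : Even (orderOf y)) :
    ∃ w ∈ Y, w * w = 1 ∧ w ≠ 1 := by
  obtain ⟨n, hn⟩ := h2
  have h0 := orderOf_pos y
  refine ⟨y ^ n, pow_mem hy n, by rw [← pow_add, ← hn, pow_orderOf_eq_one], ?_⟩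
  exact pow_ne_one_of_lt_orderOf (by omega) (by omega)

theorem exists_four {K : Subgroup G} {k : G} (hk : k ∈ K) (kk : k * k = 1) (h4 : 4 ∣ Nat.card K) :
    ∃ R ≤ K ⊓ C1 k, Nat.card R = 4 := by
  classical
  have : Fact (Nat.Prime 2) := ⟨Nat.prime_two⟩
  have hp : IsPGroup 2 (zpowers k) := by
    refine pg_iff.2 fun x hx => ⟨1, ?_⟩
    obtain ⟨n, rfl⟩ := mem_zpowers_iff.1 hx
    rw [pow_one, ← zpow_natCast, ← zpow_mul, mul_comm, zpow_mul, zpow_natCast, pow_two, kk, one_zpow]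
  obtain ⟨S, hkS, hS⟩ := Syl.exists_ge hp (zpowers_le.2 hk)
  have h4S : 4 ∣ Nat.card S := by
    have e : Nat.card S * S.relIndex K = Nat.card K := by
      rw [← relIndex_bot_left, ← relIndex_bot_left]
      exact relIndex_mul_relIndex ⊥ S K bot_le hS.le
    rw [← e] at h4
    refine Nat.Coprime.dvd_of_dvd_mul_right ?_ h4
    exact Nat.Coprime.pow_left 2 ((Nat.Prime.coprime_iff_not_dvd Nat.prime_two).2 hS.nd)
  have h4C : 4 ∣ Nat.card (S ⊓ C1 k : Subgroup G) := by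
    by_cases hc : S ≤ C1 k
    · rwa [inf_eq_left.2 hc]
    · have hS1 : Nontrivial S := by
        rw [← Finite.one_lt_card_iff_nontrivial]
        exact lt_of_lt_of_le (by norm_num) (Nat.le_of_dvd Nat.card_pos h4S)
      have := hS.pg.center_nontrivial
      obtain ⟨c, hc1⟩ := exists_ne (1 : center S)
      have hcS : ∀ s ∈ S, s * ((c : S) : G) = (c : S) * s := fun s hs =>
        congrArg Subtype.val (mem_center_iff.1 c.2 ⟨s, hs⟩)
      have hk1 : k ≠ 1 := by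
        rintro rfl
        exact hc fun s _ => mem_C1.2 (by simp)
      have hkc : k ≠ ((c : S) : G) := fun e => hc fun s hs => mem_C1.2 (by rw [e]; exact hcS s hs)
      have hc1' : ((c : S) : G) ≠ 1 := fun e => hc1 (Subtype.ext (Subtype.ext e))
      have kS : k ∈ S := hkS (mem_zpowers k)
      have h3 : ({1, k, ((c : S) : G)} : Finset G).card ≤ Nat.card (S ⊓ C1 k : Subgroup G) := by
        rw [← Set.ncard_coe_finset]
        refine Set.ncard_le_ncard (s := _) (t := ((S ⊓ C1 k : Subgroup G) : Set G)) ?_ (Set.toFinite _)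
        intro x hx
        simp only [Finset.coe_insert, Finset.coe_singleton, Set.mem_insert_iff, Set.mem_singleton_iff] at hx
        rcases hx with rfl | rfl | rfl
        · exact one_mem _
        · exact mem_inf.2 ⟨kS, mem_C1.2 rfl⟩
        · exact mem_inf.2 ⟨(c : S).2, mem_C1.2 (hcS k kS).symm⟩
      rw [Finset.card_eq_three.2 ⟨_, _, _, hk1.symm, hc1'.symm, hkc, rfl⟩] at h3
      obtain ⟨n, hn⟩ := IsPGroup.iff_card.1 (hS.pg.to_inf_left (K := C1 k))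
      rw [hn] at h3 ⊢
      refine pow_dvd_pow 2 (show 2 ≤ n from ?_)
      by_contra hlt
      have : n = 0 ∨ n = 1 := by omega
      rcases this with rfl | rfl <;> norm_num at h3
  obtain ⟨R, hR⟩ := Sylow.exists_subgroup_card_pow_prime (G := (S ⊓ C1 k : Subgroup G)) 2 (n := 2) h4C
  exact ⟨R.map (Subgroup.subtype _), (map_subtype_le _).trans (inf_le_inf_right _ hS.le),
    by rw [card_map_of_injective (subtype_injective _), hR]; norm_num⟩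

theorem exists_inv_mem {R I : Subgroup G} (h : Nat.card R = 4)
    (hI : ∀ x ∈ R, ∀ y ∈ R, x ∈ I ∨ y ∈ I ∨ x * y ∈ I) : ∃ r ∈ R, r ∈ I ∧ r * r = 1 ∧ r ≠ 1 := by
  classical
  obtain ⟨x, hx, hx1⟩ := exists_not_mem (V := R) (s := {1}) (by rw [h]; simp)
  obtain ⟨y, hy, hy1⟩ := exists_not_mem (V := R) (s := {1, x⁻¹})
    (lt_of_le_of_lt Finset.card_le_two (by rw [h]; norm_num))
  simp only [Finset.mem_insert, Finset.mem_singleton, not_or] at hx1 hy1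
  have key : ∀ r ∈ R, r ∈ I → r ≠ 1 → ∃ r ∈ R, r ∈ I ∧ r * r = 1 ∧ r ≠ 1 := fun r hr hi h1 => by
    obtain ⟨w, hw, h2, h3⟩ := inv_of_two (Y := R ⊓ I) (mem_inf.2 ⟨hr, hi⟩) (pg_iff.1 (pg_four h) r hr) h1
    exact ⟨w, (mem_inf.1 hw).1, (mem_inf.1 hw).2, h2, h3⟩
  rcases hI x hx y hy with h1 | h1 | h1
  · exact key x hx h1 hx1
  · exact key y hy h1 hy1.1
  · exact key _ (mul_mem hx hy) h1 fun e => hy1.2 (eq_inv_of_mul_eq_one_right e)

theorem card_le_two_mul {W I : Subgroup G} (hI : ∀ x ∈ W, ∀ y ∈ W, x ∈ I ∨ y ∈ I ∨ x * y ∈ I) :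
    Nat.card W ≤ 2 * Nat.card (W ⊓ I : Subgroup G) := by
  have e : Nat.card (W ⊓ I : Subgroup G) * (W ⊓ I).relIndex W = Nat.card W := by
    rw [← relIndex_bot_left, ← relIndex_bot_left]
    exact relIndex_mul_relIndex ⊥ _ W bot_le inf_le_left
  rw [inf_relIndex_left] at e
  by_cases hc : W ≤ I
  · rw [inf_eq_left.2 hc]; omega
  · obtain ⟨a, ha, haI⟩ := SetLike.not_le_iff_exists.1 hc
    have : I.relIndex W = 2 := by
      refine relIndex_eq_two_iff_exists_notMem_and.2 ⟨a, ha, haI, fun b hb => ?_⟩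
      rcases hI b hb a ha with h | h | h
      · exact Or.inr h
      · exact absurd h haI
      · exact Or.inl h
    rw [this] at e
    omega

theorem syl_conj {W I H Q : Subgroup G} (hI : ∀ x y, x ∈ I ∨ y ∈ I ∨ x * y ∈ I) (hW : IsPGroup 2 W)
    (hQ : Syl 2 Q H) (hH : W ⊓ I ≤ H) (hc : 2 * Nat.card Q ≤ Nat.card W) : ∃ d ∈ H, cj(d, Q) ≤ W := by
  have : Fact (Nat.Prime 2) := ⟨Nat.prime_two⟩
  have h1 := card_le_two_mul (W := W) (I := I) fun x _ y _ => hI x y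
  have h2 : Syl 2 (W ⊓ I) H := hQ.of_card_le hW.to_inf_left hH (by omega)
  obtain ⟨d, hd, e⟩ := hQ.conj_eq h2
  exact ⟨d, hd, e ▸ inf_le_left⟩

theorem cent_of_cj {W Q : Subgroup G} {d φ : G} (h : cj(d, Q) ≤ W) (hφ : φ ∈ 𝐂[W]) : d⁻¹ * φ * d ∈ 𝐂[Q] := by
  have := cent_anti h hφ
  rwa [← cj_cent, mem_cj] at this

end gen

section aut

variable {A : Type} [Group A] [Finite A] (m : Md A)

include m in
theorem mem_cent_inn {φ : MulAut A} (h : φ ∈ 𝐂[inn A]) : φ = 1 := by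
  rwa [m.cent_inn, mem_bot] at h

theorem mem_norm_inn (φ : MulAut A) : φ ∈ 𝐍[inn A] := norm_normal ⊤ _ (mem_top φ)

theorem false_z {W V : Subgroup (MulAut A)} (hW : IsPGroup 2 W) (hc : 2 * Nat.card m.T ≤ Nat.card W)
    (hV : V ≤ 𝐂[W]) (h4 : Nat.card V = 4) : False := by
  classical
  obtain ⟨d, -, hd⟩ := syl_conj m.idx hW m.lw.syl inf_le_right hc
  have : Nat.card V ≤ ({1, d * (MulAut.conj m.z₀)⁻¹ * d⁻¹} : Finset (MulAut A)).card := by
    refine card_le_of_sub fun φ hφ => ?_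
    simp only [Finset.mem_insert, Finset.mem_singleton]
    rcases m.lw.cenT (mem_norm_inn _) (cent_of_cj hd (hV hφ)) with h | h
    · left
      have := mem_cent_inn m h
      calc φ = d * (d⁻¹ * φ * d) * d⁻¹ := by group
        _ = 1 := by rw [this]; group
    · right
      rw [← eq_inv_of_mul_eq_one_left (mem_cent_inn m h)]
      group
  have h2 := this.trans Finset.card_le_two
  omega

theorem false_β {W V : Subgroup (MulAut A)} (hW : IsPGroup 2 W) (hc : 2 * Nat.card m.P ≤ Nat.card W)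
    (hV : V ≤ 𝐂[W]) (h4 : Nat.card V = 4) (hz : ∀ φ ∈ V, ¬ Cj (inn A) (MulAut.conj m.z₀) φ) : False := by
  classical
  obtain ⟨ρ, hρ, hi, h2, h1⟩ := exists_inv_mem (I := inn A) h4 fun x _ y _ => m.idx x y
  obtain ⟨c, hcI, hcρ⟩ := (m.lw.cls ρ hi h2 h1).resolve_left (hz ρ hρ)
  have hle : cj(c⁻¹, W) ⊓ inn A ≤ inn A ⊓ C1 m.β := by
    intro x hx
    obtain ⟨hx1, hx2⟩ := mem_inf.1 hx
    refine mem_inf.2 ⟨hx2, mem_C1.2 ?_⟩
    rw [mem_cj, inv_inv] at hx1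
    have := mem_cent.1 (hV hρ) _ hx1
    rw [← hcρ] at this
    calc x * m.β = c⁻¹ * (c * x * c⁻¹ * (c * m.β * c⁻¹)) * c := by group
      _ = m.β * x := by rw [this]; group
  obtain ⟨d, hd, hdP⟩ := syl_conj m.idx (pg_cj hW c⁻¹) m.lw.sylP hle (by rwa [card_cj])
  rw [le_cj_iff_inv_le, inv_inv, cj_cj] at hdP
  have he : c * d ∈ inn A := mul_mem hcI (mem_inf.1 hd).1
  generalize c * d = e at he hdP
  have : Nat.card V ≤ ({1, e * m.β⁻¹ * e⁻¹, e * (m.β * MulAut.conj m.z₀)⁻¹ * e⁻¹} : Finset (MulAut A)).card := by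
    refine card_le_of_sub fun φ hφ => ?_
    simp only [Finset.mem_insert, Finset.mem_singleton]
    rcases m.lw.cenP _ (mem_norm_inn _) (cent_of_cj hdP (hV hφ)) with h | h | h | h
    · left
      have := mem_cent_inn m h
      calc φ = e * (e⁻¹ * φ * e) * e⁻¹ := by group
        _ = 1 := by rw [this]; group
    · refine absurd ⟨e, he, ?_⟩ (hz φ hφ)
      rw [← inv_eq_of_mul_eq_one_right m.lw.zz, ← eq_inv_of_mul_eq_one_left (mem_cent_inn m h)]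
      group
    · right; left
      rw [← eq_inv_of_mul_eq_one_left (mem_cent_inn m h)]
      group
    · right; right
      rw [← eq_inv_of_mul_eq_one_left (mem_cent_inn m h)]
      group
  have h2 := this.trans Finset.card_le_three
  omega

end aut

section main

variable {A : Type} [Group A] {m : Md A} {G : Type u} [Group G] [Finite G] {b : Bas m G} {g t k u : G}

theorem z_mem (b : Bas m G) : b.z ∈ b.L := b.e_mem _

theorem comm_of_μ {x y : G} (hx : x ∈ b.L) (hy : y ∈ b.L) (h2 : Two y) (h : b.μ x * b.μ y = b.μ y * b.μ x) :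
    x * y = y * x :=
  b.comm_of (le_normalizer hx) hy h2 h

theorem ord_dvd {x : G} (hx : x ∈ 𝐍[b.L]) : orderOf (b.μ x) ∣ orderOf x := by
  have := orderOf_map_dvd b.hom ⟨x, hx⟩
  rwa [Subgroup.orderOf_mk] at this

theorem μ_pow {x : G} (hx : x ∈ 𝐍[b.L]) (n : ℕ) : b.μ (x ^ n) = b.μ x ^ n := map_pow b.hom ⟨x, hx⟩ n

theorem lift_p {φ : MulAut A} (h : φ ∈ inn A) (hp : (orderOf φ).Prime) :
    ∃ l ∈ b.L, b.μ l = φ ∧ ∃ i, l ^ orderOf φ ^ i = 1 := by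
  obtain ⟨l, hl, rfl⟩ := b.tp.onto φ h
  obtain ⟨i, n, hn, e⟩ := Nat.exists_eq_pow_mul_and_not_dvd (orderOf_pos l).ne' _ hp.ne_one
  obtain ⟨j, -, hj⟩ := Nat.exists_mul_mod_eq_one_of_coprime ((hp.coprime_iff_not_dvd.2 hn).symm) hp.one_lt
  refine ⟨l ^ (n * j), pow_mem hl _, ?_, i, ?_⟩
  · rw [μ_pow (le_normalizer hl), ← pow_mod_orderOf, hj, pow_one]
  · rw [← pow_mul, show n * j * orderOf (b.μ l) ^ i = orderOf (b.μ l) ^ i * n * j by ring, ← e, pow_mul,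
      pow_orderOf_eq_one, one_pow]

theorem u_inv (h : b.Pair g t k u) : u * u = 1 ∧ u ≠ 1 := by
  rcases h.uu with e | e
  · obtain ⟨β, hβ, hμ⟩ := b.exists_β
    rw [e]
    exact ⟨(b.lw hβ hμ).zz, (b.lw hβ hμ).z1⟩
  · exact ⟨(b.lw h.uL e).bb, (b.lw h.uL e).b1⟩

theorem mem_norm (h : b.Pair g t k u) {x : G} (hu : x * u = u * x) (hk : x * k = k * x) : x ∈ 𝐍[(b.cj g).L] := by
  have c : u * k = k * u := mem_cent.1 h.kK u h.uL
  refine (b.cj g).cent_le (t := u * k) ?_ ?_ (by rw [b.cj_cent]; exact h.mem) (mem_C1.2 ?_)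
  · calc u * k * (u * k) = u * (k * u) * k := by group
      _ = 1 := by rw [← c, ← mul_assoc, (u_inv h).1, one_mul, h.kk]
  · intro e
    refine (u_inv h).2 (b.zL h.uL ?_ (two_sq (u_inv h).1))
    rw [eq_inv_of_mul_eq_one_left e]
    exact inv_mem h.kK
  · rw [← mul_assoc, hu, mul_assoc, hk, mul_assoc]

theorem mem_norm_L (h : b.Pair g t k u) {x : G} (hx : x ∈ b.L) (hu : x * u = u * x) : x ∈ 𝐍[(b.cj g).L] :=
  mem_norm h hu (mem_cent.1 h.kK x hx)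

theorem conj_K (h : b.Pair g t k u) {x y : G} (hx : x ∈ b.L) (hu : x * u = u * x) (hy : y ∈ cj(g, 𝐂[b.L])) :
    x * y * x⁻¹ ∈ cj(g, 𝐂[b.L]) := by
  rw [← b.cj_cent] at hy ⊢
  exact conj_mem_of_norm (norm_cent le_rfl (mem_norm_L h hx hu)) hy

theorem core (h : b.Pair g t k u) (hno : ∀ w ∈ b.L, w * w = 1 → w ≠ 1 → w ∉ cj(g, 𝐂[b.L])) {Q R : Subgroup G}
    (hQ : Q ≤ b.L ⊓ C1 u) (pQ : IsPGroup 2 Q) (hR : R ≤ 𝐂[b.L] ⊓ C1 k) (h4 : Nat.card R = 4)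
    (hz : ∀ x ∈ Q, x ∈ 𝐂[Q] → ∀ r ∈ 𝐂[b.L], x * r ∈ cj(g, 𝐂[b.L]) → x = 1 ∨ x = u) :
    IsPGroup 2 ((b.cj g).img (Q ⊔ R)) ∧ 2 * Nat.card Q ≤ Nat.card ((b.cj g).img (Q ⊔ R)) ∧
      (b.cj g).img R ≤ 𝐂[(b.cj g).img (Q ⊔ R)] ∧ Nat.card ((b.cj g).img R) = 4 := by
  classical
  have QL : Q ≤ b.L := hQ.trans inf_le_left
  have RK : R ≤ 𝐂[b.L] := hR.trans inf_le_left
  have RQ : R ≤ 𝐂[Q] := RK.trans (cent_anti QL)
  have QR : Q ≤ 𝐍[R] := norm_of_cent (cent_comm RQ)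
  have Qu : ∀ x ∈ Q, x * u = u * x := fun x hx => mem_C1.1 (mem_inf.1 (hQ hx)).2
  have nQ : Q ≤ 𝐍[(b.cj g).L] := fun x hx => mem_norm_L h (QL hx) (Qu x hx)
  have nR : R ≤ 𝐍[(b.cj g).L] := fun r hr =>
    mem_norm h (mem_cent.1 (RK hr) u h.uL).symm (mem_C1.1 (mem_inf.1 (hR hr)).2)
  have nW : Q ⊔ R ≤ 𝐍[(b.cj g).L] := sup_le nQ nR
  have pR := pg_four h4
  have pW : IsPGroup 2 (Q ⊔ R : Subgroup G) := pg_sup pQ pR QR
  have tiR : ∀ r ∈ R, r ∈ cj(g, 𝐂[b.L]) → r = 1 := fun r hr hr' => b.ti h.nn (pg_iff.1 pR r hr) (RK hr) hr'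
  have cW : Nat.card (Q ⊔ R : Subgroup G) = Nat.card Q * 4 := by
    rw [GT.PG.card_sup_of_inf_eq_bot QR, h4]
    exact eq_bot_iff.2 fun x hx => mem_bot.2 (b.zL (QL (mem_inf.1 hx).1) (RK (mem_inf.1 hx).2)
      (pg_iff.1 pQ x (mem_inf.1 hx).1))
  have key : ∀ y ∈ Q ⊔ R, y ∈ cj(g, 𝐂[b.L]) → y = 1 ∨ ∃ r ∈ R, y = u * r := by
    intro y hy hy'
    obtain ⟨x, hx, r, hr, rfl⟩ := (mem_sup_norm' QR).1 hy
    have hxc : x ∈ 𝐂[Q] := by
      refine mem_cent.2 fun p hp => ?_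
      by_contra hne
      have h1 : p * x * p⁻¹ * x⁻¹ ∈ Q := mul_mem (mul_mem (mul_mem hp hx) (inv_mem hp)) (inv_mem hx)
      have h2 : p * x * p⁻¹ * x⁻¹ ∈ cj(g, 𝐂[b.L]) := by
        have h3 := mul_mem (conj_K h (QL hp) (Qu p hp) hy') (inv_mem hy')
        have c : p⁻¹ * r = r * p⁻¹ := mem_cent.1 (RQ hr) _ (inv_mem hp)
        have e : p * (x * r) * p⁻¹ * (x * r)⁻¹ = p * x * p⁻¹ * x⁻¹ := by
          calc p * (x * r) * p⁻¹ * (x * r)⁻¹ = p * x * (r * p⁻¹) * r⁻¹ * x⁻¹ := by group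
            _ = _ := by rw [← c]; group
        rwa [e] at h3
      obtain ⟨w, hw, w2, w1⟩ := inv_of_two (Y := b.L ⊓ cj(g, 𝐂[b.L])) (mem_inf.2 ⟨QL h1, h2⟩)
        (pg_iff.1 pQ _ h1) fun e => hne (by
          calc p * x = p * x * p⁻¹ * x⁻¹ * (x * p) := by group
            _ = x * p := by rw [e, one_mul])
      exact hno w (mem_inf.1 hw).1 w2 w1 (mem_inf.1 hw).2
    rcases hz x hx hxc r (RK hr) hy' with rfl | rfl
    · left
      rw [one_mul] at hy' ⊢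
      exact tiR r hr hy'
    · exact Or.inr ⟨r, hr, rfl⟩
  have c2 : Nat.card ((Q ⊔ R) ⊓ 𝐂[(b.cj g).L] : Subgroup G) ≤ 2 := by
    rw [b.cj_cent]
    by_cases hex : ∃ r ∈ R, u * r ∈ cj(g, 𝐂[b.L])
    · obtain ⟨r0, hr0, hK⟩ := hex
      refine (card_le_of_sub (s := {1, u * r0}) fun y hy => ?_).trans Finset.card_le_two
      simp only [Finset.mem_insert, Finset.mem_singleton]
      refine (key y (mem_inf.1 hy).1 (mem_inf.1 hy).2).imp id ?_
      rintro ⟨r, hr, rfl⟩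
      have h1 := mul_mem (inv_mem hK) (mem_inf.1 hy).2
      have e : (u * r0)⁻¹ * (u * r) = r0⁻¹ * r := by group
      rw [e] at h1
      rw [← inv_mul_eq_one.1 (tiR _ (mul_mem (inv_mem hr0) hr) h1)]
    · refine (card_le_of_sub (s := {1}) fun y hy => ?_).trans (by simp)
      rw [Finset.mem_singleton]
      refine (key y (mem_inf.1 hy).1 (mem_inf.1 hy).2).resolve_right ?_
      rintro ⟨r, hr, rfl⟩
      exact hex ⟨r, hr, (mem_inf.1 hy).2⟩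
  refine ⟨(b.cj g).pg_img pW, ?_, ?_, ?_⟩
  · have h1 := (b.cj g).card_img nW
    rw [cW] at h1
    have h2 := Nat.mul_le_mul_left (Nat.card ((b.cj g).img (Q ⊔ R))) c2
    omega
  · intro φ hφ
    obtain ⟨r, hr, rfl⟩ := ((b.cj g).mem_img nR).1 hφ
    refine mem_cent.2 fun ψ hψ => ?_
    obtain ⟨y, hy, rfl⟩ := ((b.cj g).mem_img nW).1 hψ
    rw [← (b.cj g).μ_mul (nW hy) (nR hr), ← (b.cj g).μ_mul (nR hr) (nW hy),
      mem_cent.1 (le_cent_sup RQ (comm_four h4) hr) y hy]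
  · have h1 := (b.cj g).card_img nR
    have h2 : R ⊓ 𝐂[(b.cj g).L] = ⊥ := by
      rw [b.cj_cent]
      exact eq_bot_iff.2 fun x hx => mem_bot.2 (tiR x (mem_inf.1 hx).1 (mem_inf.1 hx).2)
    rwa [h2, card_bot, mul_one, h4] at h1

theorem comm_u (hu : u ∈ b.L) (e : b.IsB u) {a : G} (hL : a ∈ b.L) (ha : b.μ a * m.β = m.β * b.μ a) :
    a * u = u * a :=
  comm_of_μ hL hu (two_sq e.2) (by rw [e.1, ha])

theorem no_z (h : b.Pair g t k u) (hno : ∀ w ∈ b.L, w * w = 1 → w ≠ 1 → w ∉ cj(g, 𝐂[b.L])) (e : b.IsB u)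
    (d : Bd (inn A) m.P m.B (MulAut.conj m.z₀) m.β) {r : G} (hr : r ∈ 𝐂[b.L]) : b.z * r ∉ cj(g, 𝐂[b.L]) := by
  intro hK
  obtain ⟨_, ⟨a, rfl⟩, hc, c', -, hcj⟩ := d.mz
  have lw := b.lw h.uL e
  have hau := comm_u h.uL e (b.e_mem a) (by rw [b.μ_e]; exact (mem_cent.1 hc _ d.mem).symm)
  have h1 := mul_mem hK (inv_mem (conj_K h (b.e_mem a) hau hK))
  have c : b.e a * r = r * b.e a := mem_cent.1 hr _ (b.e_mem a)
  have e1 : b.z * r * (b.e a * (b.z * r) * (b.e a)⁻¹)⁻¹ = b.z * (b.e a * b.z * (b.e a)⁻¹) := by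
    calc b.z * r * (b.e a * (b.z * r) * (b.e a)⁻¹)⁻¹ = b.z * (r * b.e a) * r⁻¹ * b.z⁻¹ * (b.e a)⁻¹ := by group
      _ = _ := by rw [← c, inv_eq_of_mul_eq_one_right lw.zz]; group
  rw [e1] at h1
  have h2 : b.e a * b.z * (b.e a)⁻¹ ∈ b.L := mul_mem (mul_mem (b.e_mem a) (z_mem b)) (inv_mem (b.e_mem a))
  have h3 := ord_dvd (le_normalizer (mul_mem (z_mem b) h2))
  rw [b.μ_mul (le_normalizer (z_mem b)) (le_normalizer h2), b.μ_cj (le_normalizer (b.e_mem a))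
    (le_normalizer (z_mem b)), b.μ_z, b.μ_e, ← hcj, show c' * MulAut.conj m.z₀ * c'⁻¹ = MulAut.conj c' (MulAut.conj m.z₀)
    from rfl, MulEquiv.orderOf_eq, orderOf_eq_prime (p := 2) (by rw [sq, m.lw.zz]) m.lw.z1] at h3
  obtain ⟨w, hw, w2, w1⟩ := inv_of_even (Y := b.L ⊓ cj(g, 𝐂[b.L])) (mem_inf.2 ⟨mul_mem (z_mem b) h2, h1⟩)
    (even_iff_two_dvd.2 h3)
  exact hno w (mem_inf.1 hw).1 w2 w1 (mem_inf.1 hw).2

theorem not_cj (h : b.Pair g t k u) (hno : ∀ w ∈ b.L, w * w = 1 → w ≠ 1 → w ∉ cj(g, 𝐂[b.L])) (e : b.IsB u)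
    (d : Bd (inn A) m.P m.B (MulAut.conj m.z₀) m.β) {r : G} (hr : r ∈ 𝐂[b.L]) (hk : r * k = k * r) :
    ¬ Cj (inn A) (MulAut.conj m.z₀) ((b.cj g).μ r) := by
  have := b.finite
  rintro ⟨c, hc, hcz⟩
  obtain ⟨ψ, ⟨hψ, ha⟩, hp, h2, hnd, χ, ⟨hχ, hl⟩, hev⟩ := d.odd
  obtain ⟨a, aL, rfl, i, hi⟩ := lift_p (b := b) hψ hp
  obtain ⟨l, lL, rfl⟩ := b.tp.onto χ hχ
  have hau := comm_u h.uL e aL (mem_C1.1 ha)
  have hlu := comm_u h.uL e lL (mem_C1.1 hl)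
  have na := mem_norm_L h aL hau
  have nr := mem_norm h (mem_cent.1 hr u h.uL).symm hk
  have h1 : (b.cj g).μ a ≠ 1 := by
    intro e1
    have hK := ((b.cj g).μ_eq_one na).1 e1
    rw [b.cj_cent] at hK
    have hK2 := mul_mem hK (conj_K h lL hlu hK)
    have h3 : l * a * l⁻¹ ∈ b.L := mul_mem (mul_mem lL aL) (inv_mem lL)
    have h4 := ord_dvd (le_normalizer (mul_mem aL h3))
    rw [b.μ_mul (le_normalizer aL) (le_normalizer h3), b.μ_cj (le_normalizer lL) (le_normalizer aL)] at h4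
    obtain ⟨w, hw, w2, w1⟩ := inv_of_even (Y := b.L ⊓ cj(g, 𝐂[b.L])) (mem_inf.2 ⟨mul_mem aL h3, hK2⟩)
      (even_iff_two_dvd.2 ((even_iff_two_dvd.1 hev).trans h4))
    exact hno w (mem_inf.1 hw).1 w2 w1 (mem_inf.1 hw).2
  have hpow : (b.cj g).μ a ^ orderOf (b.μ a) ^ i = 1 := by rw [← μ_pow na, hi, (b.cj g).μ_one]
  generalize orderOf (b.μ a) = p at hp h2 hnd hpow
  have hc' : (b.cj g).μ a * (b.cj g).μ r = (b.cj g).μ r * (b.cj g).μ a := by
    rw [← (b.cj g).μ_mul na nr, ← (b.cj g).μ_mul nr na, mem_cent.1 hr _ aL]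
  generalize (b.cj g).μ a = φ at h1 hpow hc'
  obtain ⟨j, -, ho⟩ := (Nat.dvd_prime_pow hp).1 (orderOf_dvd_of_pow_eq_one hpow)
  have hj : j ≠ 0 := fun e0 => h1 (orderOf_eq_one_iff.1 (by rw [ho, e0, pow_zero]))
  have hi : φ ∈ inn A := by
    refine mem_of_pow_mem (p := 2) (k := 1) (by
      rw [ho]; exact ((Nat.coprime_primes hp Nat.prime_two).2 h2).pow_left j) ?_
    rw [pow_one, pow_two]
    rcases m.idx φ φ with h3 | h3 | h3
    exacts [mul_mem h3 h3, mul_mem h3 h3, h3]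
  apply hnd
  have hm : c⁻¹ * φ * c ∈ inn A ⊓ C1 (MulAut.conj m.z₀) := by
    refine mem_inf.2 ⟨mul_mem (mul_mem (inv_mem hc) hi) hc, mem_C1.2 ?_⟩
    rw [← hcz] at hc'
    calc c⁻¹ * φ * c * MulAut.conj m.z₀ = c⁻¹ * (φ * (c * MulAut.conj m.z₀ * c⁻¹)) * c := by group
      _ = _ := by rw [hc']; group
  have ho' : orderOf (c⁻¹ * φ * c) = p ^ j := by
    rw [← ho]
    simpa using (MulAut.conj c⁻¹).orderOf_eq φ
  exact (dvd_pow_self p hj).trans (ho' ▸ orderOf_dvd_natCard _ hm)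

end main

end TB

variable {A : Type} [Group A] {m : Md A} {G : Type u} [Group G] [Finite G]

namespace Bas

variable {b : Bas m G}

theorem Pair.exists_inv {g t k u : G} (h : b.Pair g t k u) (h4 : 4 ∣ Nat.card 𝐂[b.L]) :
    ∃ w ∈ b.L, w * w = 1 ∧ w ≠ 1 ∧ w ∈ cj(g, 𝐂[b.L]) := by
  have := b.finite
  by_contra hc
  have hno : ∀ w ∈ b.L, w * w = 1 → w ≠ 1 → w ∉ cj(g, 𝐂[b.L]) := fun w hw h2 h1 hK => hc ⟨w, hw, h2, h1, hK⟩
  obtain ⟨R, hR, cR⟩ := TB.exists_four h.kK h.kk h4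
  by_cases hu : u = b.z
  · obtain ⟨β, hβ, hμ⟩ := b.exists_β
    have lw := b.lw hβ hμ
    obtain ⟨h1, h2, h3, h5⟩ := TB.core h hno (Q := b.pre m.T)
      (fun x hx => mem_inf.2 ⟨lw.syl.le hx, TB.mem_C1.2 (hu ▸ mem_cent.1 lw.zc x hx)⟩) lw.syl.pg hR cR
      fun x hx hx' _ _ _ => hu ▸ lw.eq_z hx hx'
    rw [b.card_pre m.lw.syl.pg m.lw.syl.le] at h2
    exact TB.false_z m h1 h2 h3 h5
  · have e : b.IsB u := h.uu.resolve_left hu
    have lw := b.lw h.uL e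
    have d : Bd (inn A) m.P m.B (MulAut.conj m.z₀) m.β := by
      refine m.tg.bd.resolve_left fun e' => hu (b.eq_of_μ h.uL (TB.z_mem b) (two_sq e.2) b.two_z ?_)
      rw [e.1, e']
      exact (b.μ_e _).symm
    obtain ⟨h1, h2, h3, h5⟩ := TB.core h hno (Q := b.pre m.P) lw.sylP.le lw.sylP.pg hR cR (by
      intro x hx hx' r hr hK
      rcases lw.eq_zP hx hx' with rfl | rfl | rfl | rfl
      · exact Or.inl rfl
      · exact absurd hK (TB.no_z h hno e d hr)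
      · exact Or.inr rfl
      · refine absurd ?_ (TB.no_z h hno e d (mul_mem (inv_mem h.kK) hr))
        have h6 := mul_mem (inv_mem h.mem) hK
        have c : b.z * k⁻¹ = k⁻¹ * b.z := mem_cent.1 (inv_mem h.kK) _ (TB.z_mem b)
        have e1 : (u * k)⁻¹ * (u * b.z * r) = b.z * (k⁻¹ * r) := by
          calc (u * k)⁻¹ * (u * b.z * r) = k⁻¹ * b.z * r := by group
            _ = _ := by rw [← c, mul_assoc]
        rwa [e1] at h6)
    rw [b.card_pre m.lw.sylP.pg (m.lw.sylP.le.trans inf_le_left)] at h2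
    refine TB.false_β m h1 h2 h3 h5 fun φ hφ => ?_
    have nR : R ≤ 𝐍[(b.cj g).L] := fun r hr =>
      TB.mem_norm h (mem_cent.1 (mem_inf.1 (hR hr)).1 u h.uL).symm (TB.mem_C1.1 (mem_inf.1 (hR hr)).2)
    obtain ⟨r, hr, rfl⟩ := ((b.cj g).mem_img nR).1 hφ
    exact TB.not_cj h hno e d (mem_inf.1 (hR hr)).1 (TB.mem_C1.1 (mem_inf.1 (hR hr)).2)

theorem exists_inv_symm {g w : G} (hg : g ∉ 𝐍[b.L]) (h4 : 4 ∣ Nat.card 𝐂[b.L]) (hw : w ∈ b.L) (h2 : w * w = 1)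
    (h1 : w ≠ 1) (hK : w ∈ cj(g, 𝐂[b.L])) : ∃ w' ∈ b.L, w' * w' = 1 ∧ w' ≠ 1 ∧ w' ∈ cj(g⁻¹, 𝐂[b.L]) := by
  obtain ⟨R, hR, cR⟩ := TB.exists_four (one_mem 𝐂[b.L]) (mul_one 1) h4
  have RK : R ≤ 𝐂[b.L] := hR.trans inf_le_left
  have hK' : w ∈ 𝐂[(b.cj g).L] := by rwa [b.cj_cent]
  have nR : R ≤ 𝐍[(b.cj g).L] := fun r hr =>
    (b.cj g).cent_le h2 h1 hK' (TB.mem_C1.2 (mem_cent.1 (RK hr) w hw).symm)
  obtain ⟨t, ht, hI, tt, t1⟩ := TB.exists_inv_mem (I := (b.cj g).L ⊔ 𝐂[(b.cj g).L]) cR fun x hx y hy => by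
    rw [← (b.cj g).μ_inn (nR hx), ← (b.cj g).μ_inn (nR hy), ← (b.cj g).μ_inn (nR (mul_mem hx hy)),
      (b.cj g).μ_mul (nR hx) (nR hy)]
    exact m.idx _ _
  have hg' : g⁻¹ ∉ 𝐍[(b.cj g).L] := by
    intro hn
    apply hg
    have e : (b.cj g).L = cj(g, b.L) := rfl
    rw [e, ← cj_norm, mem_cj] at hn
    have e2 : g⁻¹ * g⁻¹ * g = g⁻¹ := by group
    rwa [e2, inv_mem_iff] at hn
  obtain ⟨l, hl, k, u, hp⟩ := (b.cj g).pairA hg' h2 h1 hK' tt t1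
    (by rw [b.cj_cent, cj_inv_cj]; exact RK ht) (mem_cent.1 (RK ht) w hw).symm hI
  obtain ⟨v, hv, v2, v1, vK⟩ := hp.exists_inv (by rwa [b.cj_cent, card_cj])
  rw [b.cj_cent, cj_cj, mem_cj] at vK
  have hv' : l⁻¹ * v * l ∈ cj(g, b.L) := mul_mem (mul_mem (inv_mem hl) hv) hl
  rw [mem_cj] at hv'
  refine ⟨_, hv', ?_, ?_, ?_⟩
  · calc _ = (l * g)⁻¹ * (v * v) * (l * g) := by group
      _ = 1 := by rw [v2]; group
  · intro e
    apply v1
    calc v = (l * g) * (g⁻¹ * (l⁻¹ * v * l) * g) * (l * g)⁻¹ := by group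
      _ = 1 := by rw [e]; group
  · rw [mem_cj]
    convert vK using 1
    group

end Bas

end Cfsg.Agent.Wy
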